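import Mathlib.AlgebraicGeometry.Morphisms.Finite
import Mathlib.AlgebraicGeometry.Limits

/-!
# Finite sums of finite morphisms
-/

set_option autoImplicit false
set_option backward.isDefEq.respectTransparency false

universe u

open CategoryTheory CategoryTheory.Limits AlgebraicGeometry

namespace GrothLib.SGA1Quot21

theorem isFinite_sigmaDesc_fin : ∀ (n : ℕ) (W : Fin n → Scheme.{u}) {Z : Scheme.{u}}
    (f : ∀ i, W i ⟶ Z), (∀ i, IsFinite (f i)) → IsFinite (Sigma.desc f)
  | 0, W, Z, f, _ => by
    haveI : IsEmpty (∐ W : Scheme.{u}) := ⟨fun x => Fin.elim0 ((sigmaOpenCover W).exists_eq x).choose⟩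
    haveI : IsClosedImmersion (Sigma.desc f) :=
      IsClosedImmersion.of_isPreimmersion _ (by simp [Set.range_eq_empty])
    infer_instance
  | n + 1, W, Z, f, hf => by
    haveI := hf 0
    haveI := isFinite_sigmaDesc_fin n (fun i => W i.succ) (fun i => f i.succ) fun i => hf i.succ
    let e : ∐ W ≅ W 0 ⨿ ∐ fun i : Fin n => W i.succ :=
      { hom := Sigma.desc (Fin.cases coprod.inl (fun i => Sigma.ι (fun i : Fin n => W i.succ) i ≫ coprod.inr))
        inv := coprod.desc (Sigma.ι W 0) (Sigma.desc fun i => Sigma.ι W i.succ)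
        hom_inv_id := by
          refine Sigma.hom_ext _ _ fun i => ?_
          cases i using Fin.cases <;> simp
        inv_hom_id := by
          refine coprod.hom_ext (by simp) ?_
          refine (coprod.inr_desc_assoc _ _ _).trans (Sigma.hom_ext _ _ fun i => ?_)
          simp }
    have he : Sigma.desc f = e.hom ≫ coprod.desc (f 0) (Sigma.desc fun i => f i.succ) := by
      refine Sigma.hom_ext _ _ fun i => ?_
      cases i using Fin.cases <;> simp [e]
    rw [he]
    haveI : IsIso e.hom := ⟨e.inv, e.hom_inv_id, e.inv_hom_id⟩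
    exact (MorphismProperty.cancel_left_of_respectsIso @IsFinite _ _).2 inferInstance

/-- A finite sum of finite morphisms is finite. -/
theorem isFinite_sigmaDesc {ι : Type u} [Finite ι] {W : ι → Scheme.{u}} {Z : Scheme.{u}}
    (f : ∀ i, W i ⟶ Z) [∀ i, IsFinite (f i)] : IsFinite (Sigma.desc f) := by
  let σ := (Finite.equivFin ι).symm
  have e : Sigma.desc f = (Sigma.reindex σ W).inv ≫ Sigma.desc (fun i => f (σ i)) := by
    rw [Iso.eq_inv_comp]
    refine Sigma.hom_ext _ _ fun i => ?_
    simp
  haveI := isFinite_sigmaDesc_fin _ (fun i => W (σ i)) (fun i => f (σ i)) fun i => inferInstance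
  rw [e]
  exact (MorphismProperty.cancel_left_of_respectsIso @IsFinite _ _).2 ‹_›

end GrothLib.SGA1Quot21
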