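import Groth.Agent.Lib.SGA1Quot21.Ring
import Mathlib.RingTheory.Unramified.Finite
import Mathlib.RingTheory.Etale.Basic
import Mathlib.RingTheory.Finiteness.Projective
import Mathlib.RingTheory.Finiteness.ModuleFinitePresentation
import Mathlib.RingTheory.Smooth.Fiber

/-!
# Free actions of finite groups are Galois
-/

set_option autoImplicit false

universe u

open TensorProduct

namespace GrothLib.SGA1Quot21

variable (G A B : Type u) [Group G] [Finite G] [CommRing A] [CommRing B] [Algebra B A]
  [MulSemiringAction G A] [SMulCommClass G B A]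

/-- `x ⊗ y ↦ x * g • y`. -/
noncomputable def mulTwist (g : G) : A ⊗[B] A →ₐ[B] A :=
  Algebra.TensorProduct.lift (AlgHom.id B A) (MulSemiringAction.toAlgHom B A g) fun _ _ => .all _ _

@[simp] theorem mulTwist_tmul (g : G) (x y : A) : mulTwist G A B g (x ⊗ₜ y) = x * g • y := by
  simp [mulTwist]

/-- The map `A ⊗ A → ∏ A`. -/
noncomputable def toPi : A ⊗[B] A →ₐ[A] (G → A) :=
  Pi.algHom A _ fun g => Algebra.TensorProduct.lift (AlgHom.id A A)
    (MulSemiringAction.toAlgHom B A g) fun _ _ => .all _ _

theorem toPi_apply (z : A ⊗[B] A) (g : G) : toPi G A B z g = mulTwist G A B g z := by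
  induction z with
  | zero => simp
  | tmul x y => simp [toPi]
  | add z w hz hw => rw [map_add, Pi.add_apply, hz, hw, map_add]

variable {G A B} (hfree : ∀ g : G, g ≠ 1 → Ideal.span (Set.range fun a : A => g • a - a) = ⊤)
include hfree

theorem exists_separating :
    ∃ e : A ⊗[B] A, mulTwist G A B 1 e = 1 ∧ ∀ g : G, g ≠ 1 → mulTwist G A B g e = 0 := by
  classical
  have := Fintype.ofFinite G
  have key : ∀ g : G, g ≠ 1 → ∃ e : A ⊗[B] A, mulTwist G A B 1 e = 1 ∧ mulTwist G A B g e = 0 := by
    intro g hg
    have h1 : (-1 : A) ∈ Ideal.span (Set.range fun a : A => g • a - a) := by rw [hfree g hg]; trivial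
    have : ∀ z ∈ Ideal.span (Set.range fun a : A => g • a - a),
        ∃ e : A ⊗[B] A, mulTwist G A B 1 e = -z ∧ mulTwist G A B g e = 0 := by
      intro z hz
      induction hz using Submodule.span_induction with
      | mem z hz =>
        obtain ⟨a, rfl⟩ := hz
        exact ⟨(1 : A) ⊗ₜ a - (g • a) ⊗ₜ (1 : A), by simp, by simp⟩
      | zero => exact ⟨0, by simp, by simp⟩
      | add z w _ _ hz hw =>
        obtain ⟨e, he1, he2⟩ := hz; obtain ⟨f, hf1, hf2⟩ := hw
        exact ⟨e + f, by rw [map_add, he1, hf1, neg_add], by rw [map_add, he2, hf2, add_zero]⟩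
      | smul c z _ hz =>
        obtain ⟨e, he1, he2⟩ := hz
        exact ⟨(c ⊗ₜ (1 : A)) * e, by rw [map_mul, he1]; simp, by rw [map_mul, he2, mul_zero]⟩
    simpa using this _ h1
  choose e he1 he2 using key
  refine ⟨∏ g : {g : G // g ≠ 1}, e g.1 g.2, ?_, fun g hg => ?_⟩
  · rw [map_prod, Finset.prod_eq_one fun g _ => he1 g.1 g.2]
  · rw [map_prod]
    exact Finset.prod_eq_zero (Finset.mem_univ ⟨g, hg⟩) (he2 g hg)

variable [Algebra.IsInvariant B A G] [FaithfulSMul B A]

/-- Dual systems of generators for a free action. -/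
theorem exists_dual : ∃ (n : ℕ) (x y : Fin n → A) (T : A →ₗ[B] B),
    (∀ c, algebraMap B A (T c) = letI := Fintype.ofFinite G; ∑ g : G, g • c) ∧
    (∀ c, ∑ i, x i * algebraMap B A (T (c * y i)) = c) ∧
    (∑ i, x i * y i = 1) ∧ ∀ g : G, g ≠ 1 → ∑ i, x i * g • y i = 0 := by
  classical
  letI := Fintype.ofFinite G
  obtain ⟨e, he1, he2⟩ := exists_separating (B := B) hfree
  obtain ⟨n, x, y, rfl⟩ : ∃ (n : ℕ) (x y : Fin n → A), e = ∑ i, x i ⊗ₜ[B] y i :=
    TensorProduct.exists_sum_tmul_eq e
  have hinj : Function.Injective (algebraMap B A) := FaithfulSMul.algebraMap_injective B A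
  have hinv : ∀ c : A, ∃ b : B, algebraMap B A b = ∑ g : G, g • c := fun c =>
    Algebra.IsInvariant.isInvariant (G := G) _ fun k => by
      rw [Finset.smul_sum]
      exact Fintype.sum_equiv (Equiv.mulLeft k) _ _ fun g => smul_smul k g c
  choose T hT using hinv
  let Tl : A →ₗ[B] B :=
    { toFun := T
      map_add' := fun c d => hinj (by simp [hT, smul_add, Finset.sum_add_distrib])
      map_smul' := fun b c => hinj (by
        simp [hT, Algebra.smul_def, Finset.mul_sum, smul_mul']) }
  have h1 : ∑ i, x i * y i = 1 := by simpa using he1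
  have hg : ∀ g : G, g ≠ 1 → ∑ i, x i * g • y i = 0 := fun g hg => by simpa using he2 g hg
  refine ⟨n, x, y, Tl, hT, fun c => ?_, h1, hg⟩
  calc ∑ i, x i * algebraMap B A (T (c * y i))
      = ∑ i, ∑ g : G, g • c * (x i * g • y i) := by
        refine Finset.sum_congr rfl fun i _ => ?_
        rw [hT, Finset.mul_sum]
        exact Finset.sum_congr rfl fun g _ => by rw [smul_mul']; ring
    _ = ∑ g : G, g • c * ∑ i, x i * g • y i := by
        rw [Finset.sum_comm]; exact Finset.sum_congr rfl fun g _ => (Finset.mul_sum _ _ _).symm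
    _ = c := by
        rw [Finset.sum_eq_single (1 : G) (fun g _ hg1 => by rw [hg g hg1, mul_zero])
          (fun h => absurd (Finset.mem_univ _) h)]
        simp only [one_smul]
        rw [h1, mul_one]

theorem finite_projective : Module.Finite B A ∧ Module.Projective B A := by
  classical
  obtain ⟨n, x, y, T, -, hc, -, -⟩ := exists_dual (B := B) hfree
  let q : (Fin n → B) →ₗ[B] A := Fintype.linearCombination B x
  let s : A →ₗ[B] (Fin n → B) := LinearMap.pi fun i => T ∘ₗ LinearMap.mulRight B (y i)
  have hqs : q ∘ₗ s = LinearMap.id := by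
    ext c
    simp only [q, s, LinearMap.comp_apply, Fintype.linearCombination_apply, LinearMap.pi_apply,
      LinearMap.id_apply, LinearMap.mulRight_apply, Algebra.smul_def]
    exact (Finset.sum_congr rfl fun i _ => mul_comm _ _).trans (hc c)
  exact ⟨Module.Finite.of_surjective q fun c => ⟨s c, LinearMap.congr_fun hqs c⟩,
    Module.Projective.of_split s q hqs⟩

theorem toPi_bijective : Function.Bijective (toPi G A B) := by
  classical
  letI := Fintype.ofFinite G
  obtain ⟨n, x, y, T, hT, hc, h1, hg⟩ := exists_dual (B := B) hfree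
  constructor
  · rw [injective_iff_map_eq_zero]
    intro z hz
    have key : ∀ z : A ⊗[B] A,
        z = ∑ i, ∑ g : G, (mulTwist G A B g z * g • y i) ⊗ₜ[B] x i := by
      intro z
      induction z with
      | zero => simp
      | tmul a c =>
        conv_lhs => rw [← hc c]
        rw [tmul_sum]
        refine Finset.sum_congr rfl fun i _ => ?_
        rw [← sum_tmul, mul_comm (x i), ← Algebra.smul_def, ← smul_tmul, Algebra.smul_def, hT,
          Finset.sum_mul]
        congr 1
        refine Finset.sum_congr rfl fun g _ => ?_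
        rw [mulTwist_tmul, smul_mul']
        ring
      | add z w hz hw =>
        conv_lhs => rw [hz, hw]
        rw [← Finset.sum_add_distrib]
        refine Finset.sum_congr rfl fun i _ => ?_
        rw [← Finset.sum_add_distrib]
        exact Finset.sum_congr rfl fun g _ => by rw [map_add, add_mul, add_tmul]
    rw [key z]
    simp [← toPi_apply, hz]
  · intro v
    refine ⟨∑ h : G, ∑ i, (v h * x i) ⊗ₜ[B] (h⁻¹ • y i), ?_⟩
    funext g
    rw [toPi_apply, map_sum, Finset.sum_eq_single g]
    · simp only [map_sum, mulTwist_tmul, smul_inv_smul, mul_assoc]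
      rw [← Finset.mul_sum, h1, mul_one]
    · intro h _ hh
      simp only [map_sum, mulTwist_tmul, smul_smul, mul_assoc]
      rw [← Finset.mul_sum, hg (g * h⁻¹) (by rw [ne_eq, mul_inv_eq_one]; exact Ne.symm hh), mul_zero]
    · exact fun h => absurd (Finset.mem_univ _) h

theorem etale : Algebra.Etale B A := by
  classical
  obtain ⟨hfin, hproj⟩ := finite_projective (B := B) hfree
  haveI : Module.FinitePresentation B A := Module.finitePresentation_of_projective B A
  haveI : Algebra.FinitePresentation B A := inferInstance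
  obtain ⟨e, he1, he2⟩ := exists_separating (B := B) hfree
  haveI : Algebra.FormallyUnramified B A := by
    rw [Algebra.FormallyUnramified.iff_exists_tensorProduct]
    have hs : ∀ z, Algebra.TensorProduct.lmul' (S := A) B z = mulTwist G A B 1 z := fun z => by
      induction z with
      | zero => simp
      | tmul a c => simp
      | add z w hz hw => rw [map_add, map_add, hz, hw]
    refine ⟨e, fun s => (toPi_bijective hfree).1 ?_, by rw [hs, he1]⟩
    funext g
    rw [map_mul, map_sub, map_zero, Pi.mul_apply, Pi.sub_apply, toPi_apply, toPi_apply, toPi_apply]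
    by_cases hg : g = 1
    · subst hg; simp
    · rw [he2 g hg, mul_zero, Pi.zero_apply]
  exact Algebra.Etale.of_formallyUnramified_of_flat

end GrothLib.SGA1Quot21
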