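import Mathlib.RingTheory.Invariant.Basic
import Mathlib.RingTheory.MvPolynomial.Basic
import Mathlib.RingTheory.Localization.Away.Basic
import Mathlib.RingTheory.Flat.Basic
import Mathlib.RingTheory.IsTensorProduct
import Mathlib.LinearAlgebra.TensorProduct.Pi

/-!
# Invariants of finite groups acting on rings
-/

set_option autoImplicit false

universe u v

open TensorProduct

namespace GrothLib.SGA1Quot21

variable {G A B : Type u} [Group G] [Finite G] [CommRing A] [CommRing B] [Algebra B A]
  [MulSemiringAction G A] [SMulCommClass G B A] [Algebra.IsInvariant B A G]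

/-- Two points with values in a domain which agree on the invariants differ by a group element. -/
theorem exists_smul_ringHom_eq {K : Type v} [CommRing K] [IsDomain K] (φ ψ : A →+* K)
    (h : ∀ b : B, φ (algebraMap B A b) = ψ (algebraMap B A b)) :
    ∃ g : G, ∀ a, φ a = ψ (g • a) := by
  classical
  have := Fintype.ofFinite G
  by_contra hne
  push Not at hne
  choose a ha using hne
  let σ : G → (MvPolynomial G A →+* MvPolynomial G A) := fun k =>
    MvPolynomial.map (MulSemiringAction.toRingHom G A k)
  have hσ : ∀ k l x, σ k (σ l x) = σ (k * l) x := by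
    intro k l x
    simp only [σ, MvPolynomial.map_map]
    congr 2
    ext y
    simp [mul_smul]
  let P : MvPolynomial G A := ∑ g, MvPolynomial.C (a g) * MvPolynomial.X g
  let Q : Polynomial (MvPolynomial G A) := ∏ k, (Polynomial.X - Polynomial.C (σ k P))
  have hQ : ∀ l, Q.map (σ l) = Q := by
    intro l
    simp only [Q, Polynomial.map_prod, Polynomial.map_sub, Polynomial.map_X, Polynomial.map_C, hσ]
    exact Fintype.prod_equiv (Equiv.mulLeft l) _ _ fun k => rfl
  have hc : Q.map (MvPolynomial.map φ) = Q.map (MvPolynomial.map ψ) := by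
    ext n : 1
    rw [Polynomial.coeff_map, Polynomial.coeff_map]
    refine MvPolynomial.ext _ _ fun d => ?_
    rw [MvPolynomial.coeff_map, MvPolynomial.coeff_map]
    obtain ⟨b, hb⟩ := Algebra.IsInvariant.isInvariant (A := B) (G := G) ((Q.coeff n).coeff d) fun l => by
      conv_rhs => rw [← hQ l]
      rw [Polynomial.coeff_map, MvPolynomial.coeff_map]
      rfl
    rw [← hb]; exact h b
  have h0 : (Q.map (MvPolynomial.map ψ)).eval (MvPolynomial.map φ P) = 0 := by
    rw [← hc, Polynomial.eval_map, Polynomial.eval₂_at_apply]
    simp only [Q, Polynomial.eval_prod, Polynomial.eval_sub, Polynomial.eval_X, Polynomial.eval_C]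
    rw [Finset.prod_eq_zero (Finset.mem_univ (1 : G)), map_zero]
    have : σ 1 P = P := by
      simp only [σ]
      convert MvPolynomial.map_id P
      ext y; simp
    rw [this, sub_self]
  simp only [Q, Polynomial.map_prod, Polynomial.map_sub, Polynomial.map_X, Polynomial.map_C,
    Polynomial.eval_prod, Polynomial.eval_sub, Polynomial.eval_X, Polynomial.eval_C,
    Finset.prod_eq_zero_iff] at h0
  obtain ⟨k, -, hk⟩ := h0
  have hk' := congrArg (MvPolynomial.coeff (Finsupp.single k 1)) (sub_eq_zero.1 hk)
  simp only [σ, P, MvPolynomial.map_map, MvPolynomial.coeff_map, MvPolynomial.coeff_sum,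
    MvPolynomial.coeff_C_mul, MvPolynomial.coeff_X, mul_ite, mul_one, mul_zero] at hk'
  simp [Finsupp.single_left_inj] at hk'
  exact ha k hk'

/-- Invariant elements of a localisation at an invariant element come from the invariants. -/
theorem exists_of_invariant_away (b : B) {A' : Type v} [CommRing A'] [Algebra A A']
    [IsLocalization.Away (algebraMap B A b) A'] (σ : G → A' →+* A')
    (hσ : ∀ g a, σ g (algebraMap A A' a) = algebraMap A A' (g • a)) (x : A')
    (hx : ∀ g, σ g x = x) :
    ∃ (c : B) (n : ℕ), x * algebraMap A A' (algebraMap B A b) ^ n =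
      algebraMap A A' (algebraMap B A c) := by
  classical
  have := Fintype.ofFinite G
  obtain ⟨n, a, ha⟩ := IsLocalization.Away.surj (algebraMap B A b) x
  have key : ∀ g : G, ∃ m : ℕ, algebraMap B A b ^ m * (g • a) = algebraMap B A b ^ m * a := by
    intro g
    have : algebraMap A A' (g • a) = algebraMap A A' a := by
      rw [← hσ, ← ha, map_mul, map_pow, hσ, hx, smul_algebraMap]
    obtain ⟨⟨_, m, rfl⟩, hm⟩ := (IsLocalization.eq_iff_exists
      (Submonoid.powers (algebraMap B A b)) A').1 this
    exact ⟨m, hm⟩
  choose m hm using key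
  let M := Finset.univ.sup m
  obtain ⟨c, hc⟩ := Algebra.IsInvariant.isInvariant (A := B) (G := G)
    (algebraMap B A b ^ M * a) fun g => by
      have hle : m g ≤ M := Finset.le_sup (Finset.mem_univ g)
      rw [smul_mul', smul_pow', smul_algebraMap, ← Nat.sub_add_cancel hle, pow_add, mul_assoc,
        hm g, ← mul_assoc]
  refine ⟨c, n + M, ?_⟩
  rw [hc, map_mul, map_pow, pow_add, ← mul_assoc, ha, mul_comm]

variable (B' : Type u) [CommRing B'] [Algebra B B'] [Module.Flat B B']

/-- Invariants commute with flat base change. -/
theorem exists_of_invariant_tensor (x : B' ⊗[B] A)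
    (hx : ∀ g : G, (MulSemiringAction.toAlgHom B A g).toLinearMap.lTensor B' x = x) :
    ∃ b : B', x = b ⊗ₜ (1 : A) := by
  classical
  have := Fintype.ofFinite G
  let D : A →ₗ[B] (G → A) :=
    LinearMap.pi fun g => (MulSemiringAction.toAlgHom B A g).toLinearMap - LinearMap.id
  have hex : Function.Exact (Algebra.linearMap B A) D := by
    intro a
    constructor
    · intro ha
      obtain ⟨b, hb⟩ := Algebra.IsInvariant.isInvariant (A := B) (G := G) a fun g =>
        sub_eq_zero.1 (congrFun ha g)
      exact ⟨b, hb⟩
    · rintro ⟨b, rfl⟩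
      funext g
      simp [D]
  have h2 := Module.Flat.lTensor_exact B' hex
  have hDx : D.lTensor B' x = 0 := by
    apply (TensorProduct.piRight B B B' (fun _ : G => A)).injective
    rw [map_zero]
    funext g
    have e : ∀ z : B' ⊗[B] A, TensorProduct.piRight B B B' (fun _ : G => A) (D.lTensor B' z) g =
        (MulSemiringAction.toAlgHom B A g).toLinearMap.lTensor B' z - z := by
      intro z
      induction z with
      | zero => simp
      | tmul y a => simp [D, tmul_sub]
      | add z w hz hw => simp only [map_add, Pi.add_apply, hz, hw]; abel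
    rw [e, hx, sub_self, Pi.zero_apply]
  obtain ⟨z, rfl⟩ := (h2 x).1 hDx
  refine ⟨TensorProduct.rid B B' z, ?_⟩
  clear hDx hx
  induction z with
  | zero => simp
  | tmul y b =>
    simp [Algebra.algebraMap_eq_smul_one, smul_tmul]
  | add z w hz hw => rw [map_add, map_add, add_tmul, hz, hw]

theorem injective_tmul_one [FaithfulSMul B A] :
    Function.Injective fun b : B' => b ⊗ₜ[B] (1 : A) := by
  have := Module.Flat.lTensor_preserves_injective_linearMap (M := B') (Algebra.linearMap B A)
    (FaithfulSMul.algebraMap_injective B A)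
  intro b c hbc
  have h1 : ∀ y : B', (Algebra.linearMap B A).lTensor B' ((TensorProduct.rid B B').symm y) = y ⊗ₜ 1 :=
    fun y => by simp
  exact (TensorProduct.rid B B').symm.injective (this ((h1 b).trans (hbc.trans (h1 c).symm)))

end GrothLib.SGA1Quot21
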