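import Groth.Agent.Lib.SGA1Quot21.Basic
import Mathlib.Algebra.Category.Ring.Constructions
import Mathlib.AlgebraicGeometry.Morphisms.Flat

/-!
# Quotients by finite groups and flat base change
-/

set_option autoImplicit false
set_option backward.isDefEq.respectTransparency false

universe u

open CategoryTheory CategoryTheory.Limits AlgebraicGeometry TensorProduct TopologicalSpace

namespace GrothLib.SGA1Quot21

variable {X Y X' Y' : Scheme.{u}} {G : Type u} [Group G] [Finite G]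
  {ρ : G →* Aut X} {p : X ⟶ Y} {qY : Y' ⟶ Y} {pX : X' ⟶ X} {p' : X' ⟶ Y'}
  {ρ' : G →* Aut X'}

/-- Over an affine piece of a flat base change the invariant sections are those of the base. -/
theorem sections_baseChange [IsAffineHom p] [Flat qY] (hsq : IsPullback pX p' p qY)
    (hinv : ∀ g : G, (ρ g).hom ≫ p = p) (hinv' : ∀ g : G, (ρ' g).hom ≫ p' = p')
    (hcompat : ∀ g : G, (ρ' g).hom ≫ pX = pX ≫ (ρ g).hom)
    (V : Y.Opens) (hV : IsAffineOpen V) (hI : Function.Injective (p.app V).hom)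
    (hR : ∀ s, IsInv ρ p hinv V s → s ∈ Set.range (p.app V).hom)
    (W : Y'.Opens) (hW : IsAffineOpen W) (hle : W ≤ qY ⁻¹ᵁ V) :
    Function.Injective (p'.app W).hom ∧
      ∀ s, IsInv ρ' p' hinv' W s → s ∈ Set.range (p'.app W).hom := by
  have hUX : IsAffineOpen (p ⁻¹ᵁ V) := hV.preimage p
  have hle2 : p' ⁻¹ᵁ W ≤ pX ⁻¹ᵁ (p ⁻¹ᵁ V) := by
    rw [← Scheme.Hom.comp_preimage, hsq.w, Scheme.Hom.comp_preimage]
    exact p'.preimage_mono hle
  have hUY : p' ⁻¹ᵁ W = pX ⁻¹ᵁ (p ⁻¹ᵁ V) ⊓ p' ⁻¹ᵁ W := (inf_eq_right.2 hle2).symm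
  have hpo := (isIso_pushoutSection_iff hsq hle le_rfl hUY).1
    (isIso_pushoutSection_of_isAffineOpen hsq hle le_rfl hUY hV hW hUX)
  rw [Scheme.Hom.appLE_eq_app, Scheme.Hom.appLE_eq_app] at hpo
  letI := (p.app V).hom.toAlgebra
  letI := (qY.appLE V W hle).hom.toAlgebra
  letI := (pX.appLE (p ⁻¹ᵁ V) (p' ⁻¹ᵁ W) hle2).hom.toAlgebra
  letI := (p'.app W).hom.toAlgebra
  letI := ((qY.appLE V W hle ≫ p'.app W).hom).toAlgebra
  letI := sectionsAction ρ p hinv V
  haveI := sections_smulComm ρ p hinv V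
  haveI : IsScalarTower Γ(Y, V) Γ(Y', W) Γ(X', p' ⁻¹ᵁ W) := .of_algebraMap_eq' rfl
  haveI : IsScalarTower Γ(Y, V) Γ(X, p ⁻¹ᵁ V) Γ(X', p' ⁻¹ᵁ W) := by
    refine .of_algebraMap_eq' ?_
    have := hpo.w
    exact congrArg CommRingCat.Hom.hom this.symm
  haveI : Algebra.IsPushout Γ(Y, V) Γ(Y', W) Γ(X, p ⁻¹ᵁ V) Γ(X', p' ⁻¹ᵁ W) :=
    CommRingCat.isPushout_iff_isPushout.1 hpo.flip
  haveI : Module.Flat Γ(Y, V) Γ(Y', W) :=
    HasRingHomProperty.appLE @Flat qY inferInstance ⟨V, hV⟩ ⟨W, hW⟩ hle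
  haveI : FaithfulSMul Γ(Y, V) Γ(X, p ⁻¹ᵁ V) := (faithfulSMul_iff_algebraMap_injective _ _).2 hI
  haveI : Algebra.IsInvariant Γ(Y, V) Γ(X, p ⁻¹ᵁ V) G := ⟨fun a ha => hR a fun g => by
    have := ha g⁻¹
    rw [smul_def, inv_inv] at this
    exact this⟩
  let e := Algebra.IsPushout.equiv Γ(Y, V) Γ(Y', W) Γ(X, p ⁻¹ᵁ V) Γ(X', p' ⁻¹ᵁ W)
  have he : ∀ b : Γ(Y', W), e (b ⊗ₜ 1) = (p'.app W).hom b := fun b => by
    rw [Algebra.IsPushout.equiv_tmul, map_one, mul_one]; rfl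
  have hact : ∀ (g : G) (z : Γ(Y', W) ⊗[Γ(Y, V)] Γ(X, p ⁻¹ᵁ V)),
      (act ρ' p' hinv' W g⁻¹).hom (e z) =
        e ((MulSemiringAction.toAlgHom Γ(Y, V) Γ(X, p ⁻¹ᵁ V) g).toLinearMap.lTensor Γ(Y', W) z) := by
    intro g z
    induction z with
    | zero => simp
    | tmul b a =>
      rw [LinearMap.lTensor_tmul, Algebra.IsPushout.equiv_tmul, Algebra.IsPushout.equiv_tmul, map_mul]
      congr 1
      · exact isInv_app ρ' p' hinv' W b g⁻¹
      · show (pX.appLE _ _ hle2 ≫ act ρ' p' hinv' W g⁻¹).hom a =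
          (act ρ p hinv V g⁻¹ ≫ pX.appLE _ _ hle2).hom a
        rw [act, act, Scheme.Hom.appLE_comp_appLE, Scheme.Hom.appLE_comp_appLE]
        congr 3
        exact hcompat g⁻¹
    | add z w hz hw => simp only [map_add, hz, hw]
  refine ⟨fun b c h => ?_, fun s hs => ?_⟩
  · exact injective_tmul_one Γ(Y', W) (A := Γ(X, p ⁻¹ᵁ V))
      (e.injective ((he b).trans (h.trans (he c).symm)))
  · obtain ⟨z, rfl⟩ := e.surjective s
    obtain ⟨b, rfl⟩ := exists_of_invariant_tensor (G := G) Γ(Y', W) z fun g =>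
      e.injective ((hact g z).symm.trans (hs g⁻¹))
    exact ⟨b, (he b).symm⟩

/-- Quotients commute with flat base change. -/
theorem isQuot_baseChange [Flat qY] (hp : SGA1.IsQuot ρ p) (hsq : IsPullback pX p' p qY)
    (hinv' : ∀ g : G, (ρ' g).hom ≫ p' = p') (hcompat : ∀ g : G, (ρ' g).hom ≫ pX = pX ≫ (ρ g).hom) :
    SGA1.IsQuot ρ' p' := by
  haveI := hp.affine
  haveI : IsAffineHom p' := MorphismProperty.of_isPullback hsq ‹IsAffineHom p›
  have key : ∀ W : Y'.Opens, (IsAffineOpen W ∧ ∃ V : Y.Opens, IsAffineOpen V ∧ W ≤ qY ⁻¹ᵁ V) →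
      Function.Injective (p'.app W).hom ∧
        ∀ s, IsInv ρ' p' hinv' W s → s ∈ Set.range (p'.app W).hom := by
    rintro W ⟨hW, V, hV, hle⟩
    exact sections_baseChange hsq hp.inv hinv' hcompat V hV (hp.injective V)
      (fun s => (hp.range_iff V s).2) W hW hle
  refine isQuot_of_basis ρ' p' hinv'
    (fun W => IsAffineOpen W ∧ ∃ V : Y.Opens, IsAffineOpen V ∧ W ≤ qY ⁻¹ᵁ V) (fun U y hy => ?_)
    (fun W hW => (key W hW).1) (fun W hW => (key W hW).2)
  obtain ⟨_, ⟨V, hV, rfl⟩, hyV, -⟩ := Y.isBasis_affineOpens.exists_subset_of_mem_open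
    (Set.mem_univ (qY y)) isOpen_univ
  obtain ⟨_, ⟨W, hW, rfl⟩, hyW, hle⟩ := Y'.isBasis_affineOpens.exists_subset_of_mem_open
    (show y ∈ ((U ⊓ qY ⁻¹ᵁ V : Y'.Opens) : Set Y') from ⟨hy, hyV⟩) (U ⊓ qY ⁻¹ᵁ V).2
  exact ⟨W, ⟨hW, V, hV, fun z hz => (hle hz).2⟩, hyW, fun z hz => (hle hz).1⟩

/-- Over an affine base the quotient property may be checked on global sections. -/
theorem isQuot_of_top [IsAffine Y] [IsAffineHom p] (hinv : ∀ g : G, (ρ g).hom ≫ p = p)
    (hI : Function.Injective (p.app ⊤).hom)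
    (hR : ∀ s, IsInv ρ p hinv ⊤ s → s ∈ Set.range (p.app ⊤).hom) : SGA1.IsQuot ρ p := by
  have hsq : IsPullback (𝟙 X) p p (𝟙 Y) := IsPullback.of_horiz_isIso ⟨by simp⟩
  have key := fun (W : Y.Opens) (hW : IsAffineOpen W) =>
    sections_baseChange (ρ' := ρ) hsq hinv hinv (fun g => by simp) ⊤ (isAffineOpen_top Y) hI hR W hW le_top
  exact isQuot_of_affine ρ p hinv (fun W hW => (key W hW).1) fun W hW => (key W hW).2

/-- The spectrum of the invariants is the quotient of the spectrum. -/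
theorem isQuot_Spec {A B : Type u} [CommRing A] [CommRing B] [Algebra B A] [MulSemiringAction G A]
    [SMulCommClass G B A] [Algebra.IsInvariant B A G] [FaithfulSMul B A]
    (ρ : G →* Aut (Spec (CommRingCat.of A)))
    (hρ : Set.range (fun g : G => (ρ g).hom) =
      Set.range (fun g : G => Spec.map (CommRingCat.ofHom (MulSemiringAction.toRingHom G A g)))) :
    SGA1.IsQuot ρ (Spec.map (CommRingCat.ofHom (algebraMap B A))) := by
  let φ : CommRingCat.of B ⟶ CommRingCat.of A := CommRingCat.ofHom (algebraMap B A)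
  have hσ : ∀ g : G, φ ≫ CommRingCat.ofHom (MulSemiringAction.toRingHom G A g) = φ := fun g => by
    ext b; exact smul_algebraMap g b
  have hinv : ∀ g : G, (ρ g).hom ≫ Spec.map φ = Spec.map φ := fun g => by
    obtain ⟨h, hh⟩ : (ρ g).hom ∈ Set.range (fun g : G => Spec.map (CommRingCat.ofHom (MulSemiringAction.toRingHom G A g))) :=
      hρ ▸ ⟨g, rfl⟩
    rw [← hh, ← Spec.map_comp, hσ]
  have htop : ∀ (f : CommRingCat.of B ⟶ CommRingCat.of A),
      (Spec.map f).app ⊤ ≫ (Scheme.ΓSpecIso _).hom = (Scheme.ΓSpecIso _).hom ≫ f := fun f =>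
    Scheme.ΓSpecIso_naturality f
  refine isQuot_of_top hinv ?_ fun s hs => ?_
  · intro a b h
    apply (ConcreteCategory.bijective_of_isIso (Scheme.ΓSpecIso (CommRingCat.of B)).hom).1
    apply FaithfulSMul.algebraMap_injective B A
    show ((Scheme.ΓSpecIso _).hom ≫ φ).hom a = ((Scheme.ΓSpecIso _).hom ≫ φ).hom b
    rw [← htop, CommRingCat.comp_apply, CommRingCat.comp_apply]
    exact congrArg _ h
  · obtain ⟨b, hb⟩ := Algebra.IsInvariant.isInvariant (A := B) (G := G)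
      ((Scheme.ΓSpecIso (CommRingCat.of A)).hom.hom s) fun g => by
        obtain ⟨h, hh⟩ : Spec.map (CommRingCat.ofHom (MulSemiringAction.toRingHom G A g)) ∈
            Set.range (fun g : G => (ρ g).hom) := hρ ▸ ⟨g, rfl⟩
        show ((Scheme.ΓSpecIso _).hom ≫ CommRingCat.ofHom (MulSemiringAction.toRingHom G A g)).hom s = _
        rw [← Scheme.ΓSpecIso_naturality, CommRingCat.comp_apply]
        refine congrArg _ (Eq.trans ?_ (hs h))
        refine congrArg (fun f => (CommRingCat.Hom.hom f) s) ?_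
        rw [act, appLE_congr_hom (show (ρ h).hom = Spec.map _ from hh)]
        exact Scheme.Hom.app_eq_appLE _
    obtain ⟨t, ht⟩ := (ConcreteCategory.bijective_of_isIso (Scheme.ΓSpecIso (CommRingCat.of B)).hom).2 b
    refine ⟨t, (ConcreteCategory.bijective_of_isIso (Scheme.ΓSpecIso (CommRingCat.of A)).hom).1 ?_⟩
    show ((Spec.map φ).app ⊤ ≫ (Scheme.ΓSpecIso _).hom).hom t = _
    rw [htop, CommRingCat.comp_apply]
    exact (congrArg (algebraMap B A) ht).trans hb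

end GrothLib.SGA1Quot21
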