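import Groth.Agent.Lib.SGA1Quot21.Basic
import Mathlib.AlgebraicGeometry.PullbackCarrier
import Mathlib.RingTheory.Ideal.GoingUp

/-!
# Points of quotients by finite groups and the universal property
-/

set_option autoImplicit false
set_option backward.isDefEq.respectTransparency false

universe u

open CategoryTheory CategoryTheory.Limits AlgebraicGeometry TopologicalSpace

namespace GrothLib.SGA1Quot21

variable {X Y : Scheme.{u}} {G : Type u} [Group G] {ρ : G →* Aut X} {p : X ⟶ Y}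

theorem SpecMap_act_fromSpec (hinv : ∀ g : G, (ρ g).hom ≫ p = p) {U : Y.Opens}
    (hU : IsAffineOpen (p ⁻¹ᵁ U)) (g : G) :
    Spec.map (act ρ p hinv U g) ≫ hU.fromSpec = hU.fromSpec ≫ (ρ g).hom :=
  hU.SpecMap_appLE_fromSpec _ hU _

theorem exists_SpecMap_fromSpec {K : Type u} [Field K] {W : X.Opens} (hW : IsAffineOpen W)
    (ξ : Spec (CommRingCat.of K) ⟶ X) (h : ξ default ∈ W) :
    ∃ φ : Γ(X, W) ⟶ CommRingCat.of K, Spec.map φ ≫ hW.fromSpec = ξ := by
  have hr : Set.range ξ ⊆ Set.range hW.fromSpec := by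
    rw [hW.range_fromSpec]; rintro _ ⟨z, rfl⟩; rwa [Subsingleton.elim z default]
  obtain ⟨φ, hφ⟩ := Spec.map_surjective (IsOpenImmersion.lift hW.fromSpec ξ hr)
  exact ⟨φ, by rw [hφ, IsOpenImmersion.lift_fac]⟩

/-- A surjective morphism which is injective on sections is an epimorphism. -/
theorem eq_of_surjective_of_injective {X Y Z : Scheme.{u}} (p : X ⟶ Y) (hs : Function.Surjective p)
    (hi : ∀ U : Y.Opens, Function.Injective (p.app U).hom) {a b : Y ⟶ Z} (h : p ≫ a = p ≫ b) :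
    a = b := by
  have hbase : ∀ y, a y = b y := fun y => by
    obtain ⟨x, rfl⟩ := hs y
    exact congrArg (fun f : X ⟶ Z => f x) h
  refine Scheme.Hom.ext (TopCat.hom_ext (ContinuousMap.ext hbase)) fun V => ?_
  ext c
  apply hi
  rw [← CommRingCat.comp_apply, ← CommRingCat.comp_apply]
  refine congrArg (fun f => (CommRingCat.Hom.hom f) c) ?_
  simp only [Scheme.Hom.app_eq_appLE, Scheme.Hom.appLE_map, Scheme.Hom.appLE_comp_appLE]
  exact appLE_congr_hom' h V _ _
where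
  appLE_congr_hom' {X Z : Scheme.{u}} {f f' : X ⟶ Z} (h : f = f') (V : Z.Opens) (W : X.Opens) (e : W ≤ f ⁻¹ᵁ V) :
    f.appLE V W e = f'.appLE V W (h ▸ e) := by subst h; rfl

variable [Finite G] (hp : SGA1.IsQuot ρ p)
include hp

/-- Field-valued points with the same image differ by an element of the group. -/
theorem exists_comp_eq {K : Type u} [Field K] (ξ₁ ξ₂ : Spec (CommRingCat.of K) ⟶ X)
    (h : ξ₁ ≫ p = ξ₂ ≫ p) : ∃ g : G, ξ₁ ≫ (ρ g).hom = ξ₂ := by
  obtain ⟨_, ⟨U, hU, rfl⟩, hxU, -⟩ := Y.isBasis_affineOpens.exists_subset_of_mem_open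
    (Set.mem_univ ((ξ₁ ≫ p) default)) isOpen_univ
  haveI := hp.affine
  have hpU : IsAffineOpen (p ⁻¹ᵁ U) := hU.preimage p
  obtain ⟨φ, hφ⟩ := exists_SpecMap_fromSpec hpU ξ₁ hxU
  obtain ⟨ψ, hψ⟩ := exists_SpecMap_fromSpec hpU ξ₂ (show p (ξ₂ default) ∈ U by
    have : p (ξ₂ default) = (ξ₁ ≫ p) default := by rw [h]; rfl
    rw [this]; exact hxU)
  have hs : Spec.map (p.app U) ≫ hU.fromSpec = hpU.fromSpec ≫ p := by
    rw [Scheme.Hom.app_eq_appLE]; exact hU.SpecMap_appLE_fromSpec p hpU le_rfl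
  have hB : p.app U ≫ φ = p.app U ≫ ψ := by
    apply Spec.map_injective
    rw [← cancel_mono hU.fromSpec, Spec.map_comp, Spec.map_comp, Category.assoc, Category.assoc, hs,
      reassoc_of% hφ, reassoc_of% hψ, h]
  letI := (p.app U).hom.toAlgebra
  letI := sectionsAction ρ p hp.inv U
  haveI := sections_isInvariant hp U
  haveI := sections_smulComm ρ p hp.inv U
  obtain ⟨g, hg⟩ := exists_smul_ringHom_eq (G := G) (A := Γ(X, p ⁻¹ᵁ U)) (B := Γ(Y, U))
    φ.hom ψ.hom fun b => congrArg (fun f => (CommRingCat.Hom.hom f) b) hB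
  refine ⟨g, ?_⟩
  have e : act ρ p hp.inv U g⁻¹ ≫ ψ = φ := by ext a; exact (hg a).symm
  have h2 : ξ₂ ≫ (ρ g⁻¹).hom = ξ₁ := by
    rw [← hψ, Category.assoc, ← SpecMap_act_fromSpec hp.inv hpU, ← Spec.map_comp_assoc, e, hφ]
  rw [← h2, Category.assoc, ← rho_mul, mul_inv_cancel, rho_one, Category.comp_id]

theorem surjective : Function.Surjective p := by
  intro y
  obtain ⟨_, ⟨U, hU, rfl⟩, hyU, -⟩ := Y.isBasis_affineOpens.exists_subset_of_mem_open
    (Set.mem_univ y) isOpen_univ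
  haveI := hp.affine
  have hpU : IsAffineOpen (p ⁻¹ᵁ U) := hU.preimage p
  letI := (p.app U).hom.toAlgebra
  letI := sectionsAction ρ p hp.inv U
  haveI := sections_isInvariant hp U
  haveI := sections_smulComm ρ p hp.inv U
  haveI := sections_faithful hp U
  haveI := Algebra.IsInvariant.isIntegral Γ(Y, U) Γ(X, p ⁻¹ᵁ U) G
  obtain ⟨P, hP⟩ : y ∈ Set.range hU.fromSpec := by rw [hU.range_fromSpec]; exact hyU
  obtain ⟨Q, -, hQ, hQP⟩ := Ideal.exists_ideal_over_prime_of_isIntegral P.asIdeal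
    (⊥ : Ideal Γ(X, p ⁻¹ᵁ U)) (by
      intro b hb
      have : b = 0 := FaithfulSMul.algebraMap_injective Γ(Y, U) Γ(X, p ⁻¹ᵁ U)
        ((Ideal.mem_bot.1 hb).trans (map_zero _).symm)
      rw [this]; exact P.asIdeal.zero_mem)
  refine ⟨hpU.fromSpec ⟨Q, hQ⟩, ?_⟩
  have hs : Spec.map (p.app U) ≫ hU.fromSpec = hpU.fromSpec ≫ p := by
    rw [Scheme.Hom.app_eq_appLE]; exact hU.SpecMap_appLE_fromSpec p hpU le_rfl
  show (hpU.fromSpec ≫ p) ⟨Q, hQ⟩ = y
  rw [← hs, ← hP]
  exact congrArg hU.fromSpec (PrimeSpectrum.ext hQP)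

theorem apply_eq_iff (x x' : X) : p x = p x' ↔ ∃ g : G, (ρ g).hom x = x' := by
  constructor
  · intro h
    obtain ⟨z, hz, hz'⟩ := Scheme.Pullback.exists_preimage_pullback (f := p) (g := p) x x' h
    let j := (pullback p p).fromSpecResidueField z
    obtain ⟨g, hg⟩ := exists_comp_eq hp (j ≫ pullback.fst p p) (j ≫ pullback.snd p p)
      (by rw [Category.assoc, Category.assoc, pullback.condition])
    refine ⟨g, ?_⟩
    have := congrArg (fun f : Spec ((pullback p p).residueField z) ⟶ X => f default) hg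
    simp only [j, Scheme.Hom.comp_apply, Scheme.fromSpecResidueField_apply, hz, hz'] at this
    exact this
  · rintro ⟨g, rfl⟩
    rw [← Scheme.Hom.comp_apply, hp.inv]

theorem isClosedMap : IsClosedMap p :=
  haveI := isIntegralHom hp
  p.isClosedMap

theorem isQuotientMap : Topology.IsQuotientMap p :=
  (isClosedMap hp).isQuotientMap p.continuous (surjective hp)

/-- An invariant open subset is the preimage of an open subset. -/
theorem exists_opens_preimage (W : X.Opens) (hW : ∀ g : G, (ρ g).hom ⁻¹ᵁ W = W) :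
    ∃ U : Y.Opens, p ⁻¹ᵁ U = W := by
  refine ⟨⟨(p '' (W : Set X)ᶜ)ᶜ, (isClosedMap hp _ W.2.isClosed_compl).isOpen_compl⟩,
    Opens.ext (Set.ext fun x => ⟨fun hx => by_contra fun h => hx ⟨x, h, rfl⟩, ?_⟩)⟩
  rintro hx ⟨z, hz, hzx⟩
  obtain ⟨g, rfl⟩ := (apply_eq_iff hp z x).1 hzx
  exact hz (by rw [← hW g]; exact hx)

omit [Finite G] in
theorem isQuot_restrict (U : Y.Opens) (ρU : G →* Aut (p ⁻¹ᵁ U).toScheme)
    (hρU : ∀ g : G, (ρU g).hom ≫ (p ⁻¹ᵁ U).ι = (p ⁻¹ᵁ U).ι ≫ (ρ g).hom) :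
    SGA1.IsQuot ρU (p ∣_ U) := by
  haveI := hp.affine
  have hinv : ∀ g : G, (ρU g).hom ≫ p ∣_ U = p ∣_ U := fun g => by
    rw [← cancel_mono U.ι, Category.assoc, morphismRestrict_ι, reassoc_of% hρU g, hp.inv]
  have key : ∀ V : U.toScheme.Opens, (p ∣_ U) ⁻¹ᵁ V = (p ⁻¹ᵁ U).ι ⁻¹ᵁ (p ⁻¹ᵁ (U.ι ''ᵁ V)) := fun V => by
    rw [← Scheme.Hom.comp_preimage, ← morphismRestrict_ι, Scheme.Hom.comp_preimage,
      Scheme.Hom.preimage_image_eq]
  refine ⟨MorphismProperty.of_isPullback (isPullback_morphismRestrict p U).flip ‹IsAffineHom p›, hinv, fun V => ?_, fun V s => ⟨?_, fun hs => ?_⟩⟩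
  · rw [morphismRestrict_app]
    intro a b h
    have := (ConcreteCategory.bijective_of_isIso
      (X.presheaf.map (eqToHom (image_morphismRestrict_preimage p U V)).op)).1 h
    exact hp.injective _ this
  · rintro ⟨b, rfl⟩; exact isInv_app ρU (p ∣_ U) hinv V b
  obtain ⟨t, rfl⟩ := (ConcreteCategory.bijective_of_isIso
      (X.presheaf.map (eqToHom (image_morphismRestrict_preimage p U V)).op)).2 s
  obtain ⟨b, rfl⟩ := (hp.range_iff _ t).2 fun g => by
    apply (ConcreteCategory.bijective_of_isIso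
      (X.presheaf.map (eqToHom (image_morphismRestrict_preimage p U V)).op)).1
    refine Eq.trans ?_ (hs g)
    refine congrArg (fun f => (CommRingCat.Hom.hom f) t)
      (show SGA1Quot21.act ρ p hp.inv (U.ι ''ᵁ V) g ≫
          X.presheaf.map (eqToHom (image_morphismRestrict_preimage p U V)).op =
        X.presheaf.map (eqToHom (image_morphismRestrict_preimage p U V)).op ≫
          act ρU (p ∣_ U) hinv V g from ?_)
    have hle : (p ∣_ U) ⁻¹ᵁ V ≤ (p ⁻¹ᵁ U).ι ⁻¹ᵁ (p ⁻¹ᵁ (U.ι ''ᵁ V)) := (key V).le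
    rw [show X.presheaf.map (eqToHom (image_morphismRestrict_preimage p U V)).op =
      (p ⁻¹ᵁ U).ι.appLE (p ⁻¹ᵁ (U.ι ''ᵁ V)) ((p ∣_ U) ⁻¹ᵁ V) hle from
        (Scheme.Opens.ι_appLE _ _ _ hle).symm]
    erw [Scheme.Hom.appLE_comp_appLE, Scheme.Hom.appLE_comp_appLE]
    congr 1
    exact (hρU g).symm
  refine ⟨b, ?_⟩
  rw [morphismRestrict_app]
  rfl

omit [Finite G] in
theorem app_injective_restrict (U : Y.Opens) (V : U.toScheme.Opens) :
    Function.Injective ((p ∣_ U).app V).hom := by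
  rw [morphismRestrict_app]
  intro a b h
  exact hp.injective _ ((ConcreteCategory.bijective_of_isIso
      (X.presheaf.map (eqToHom (image_morphismRestrict_preimage p U V)).op)).1 h)

/-- The universal property of the quotient. -/
theorem existsUnique_desc {Z : Scheme.{u}} (h : X ⟶ Z) (hh : ∀ g : G, (ρ g).hom ≫ h = h) :
    ∃! h' : Y ⟶ Z, p ≫ h' = h := by
  have hs : ∀ U : Y.Opens, Function.Surjective (p ∣_ U) := fun U => by
    haveI : Surjective p := ⟨surjective hp⟩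
    exact (MorphismProperty.of_isPullback (isPullback_morphismRestrict p U).flip ‹Surjective p›).surj
  have hepi : ∀ (U : Y.Opens) (a b : U.toScheme ⟶ Z), (p ∣_ U) ≫ a = (p ∣_ U) ≫ b → a = b :=
    fun U a b e => eq_of_surjective_of_injective (p ∣_ U) (hs U) (app_injective_restrict hp U) e
  have key : ∀ y : Y, ∃ (U : Y.Opens) (k : U.toScheme ⟶ Z),
      y ∈ U ∧ (p ∣_ U) ≫ k = (p ⁻¹ᵁ U).ι ≫ h := by
    intro y
    obtain ⟨x, rfl⟩ := surjective hp y
    obtain ⟨_, ⟨V, hV, rfl⟩, hxV, -⟩ := Z.isBasis_affineOpens.exists_subset_of_mem_open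
      (Set.mem_univ (h x)) isOpen_univ
    obtain ⟨U, hU⟩ := exists_opens_preimage hp (h ⁻¹ᵁ V) fun g => by
      rw [← Scheme.Hom.comp_preimage, hh]
    let f := h.appLE V (p ⁻¹ᵁ U) hU.le
    have hf : ∀ c, (f.hom c) ∈ Set.range (p.app U).hom := fun c => (hp.range_iff U _).2 fun g => by
      show ((f ≫ (ρ g).hom.appLE _ _ _).hom c) = f.hom c
      rw [Scheme.Hom.appLE_comp_appLE]
      congr 3
      exact hh g
    choose φ hφ using hf
    let φ' : Γ(Z, V) →+* Γ(Y, U) :=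
      { toFun := φ
        map_one' := hp.injective U (by rw [hφ, map_one, map_one])
        map_mul' := fun a b => hp.injective U (by rw [hφ, map_mul, map_mul, hφ, hφ])
        map_zero' := hp.injective U (by rw [hφ, map_zero, map_zero])
        map_add' := fun a b => hp.injective U (by rw [hφ, map_add, map_add, hφ, hφ]) }
    have hφ' : CommRingCat.ofHom φ' ≫ p.app U = f := by ext c; exact hφ c
    refine ⟨U, U.toSpecΓ ≫ Spec.map (CommRingCat.ofHom φ') ≫ hV.fromSpec,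
      show x ∈ p ⁻¹ᵁ U by rw [hU]; exact hxV, ?_⟩
    rw [← Scheme.Opens.toSpecΓ_naturality_assoc, ← Spec.map_comp_assoc, hφ',
      Scheme.Opens.toSpecΓ_SpecMap_appLE_assoc, hV.toSpecΓ_fromSpec, Scheme.Hom.resLE_comp_ι]
  choose U k hy hk using key
  let 𝒰 := Y.openCoverOfIsOpenCover U (eq_top_iff.2 fun y _ => Opens.mem_iSup.2 ⟨y, hy y⟩)
  have hcompat : ∀ a b : Y, pullback.fst (U a).ι (U b).ι ≫ k a = pullback.snd (U a).ι (U b).ι ≫ k b := by
    intro a b
    let W := U a ⊓ U b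
    have e : ∀ c : Y, (hc : W ≤ U c) → (p ∣_ W) ≫ Y.homOfLE hc ≫ k c = (p ⁻¹ᵁ W).ι ≫ h := fun c hc => by
      have : (p ∣_ W) ≫ Y.homOfLE hc = X.homOfLE (p.preimage_mono hc) ≫ (p ∣_ U c) := by
        simp [← cancel_mono (U c).ι]
      rw [reassoc_of% this, hk, Scheme.homOfLE_ι_assoc]
    have h0 := hepi W _ _ ((e a inf_le_left).trans (e b inf_le_right).symm)
    let m : pullback (U a).ι (U b).ι ⟶ W := IsOpenImmersion.lift W.ι
      (pullback.fst (U a).ι (U b).ι ≫ (U a).ι) (by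
        rw [Scheme.Opens.range_ι]
        rintro _ ⟨z, rfl⟩
        refine ⟨(pullback.fst (U a).ι (U b).ι z).2, ?_⟩
        rw [pullback.condition]
        exact (pullback.snd (U a).ι (U b).ι z).2)
    have hm : m ≫ W.ι = pullback.fst (U a).ι (U b).ι ≫ (U a).ι := IsOpenImmersion.lift_fac _ _ _
    have h1 : m ≫ Y.homOfLE inf_le_left = pullback.fst (U a).ι (U b).ι := by
      rw [← cancel_mono (U a).ι, Category.assoc, Scheme.homOfLE_ι, hm]
    have h2 : m ≫ Y.homOfLE inf_le_right = pullback.snd (U a).ι (U b).ι := by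
      rw [← cancel_mono (U b).ι, Category.assoc, Scheme.homOfLE_ι, hm, pullback.condition]
    rw [← h1, ← h2, Category.assoc, Category.assoc, h0]
  let h' : Y ⟶ Z := Scheme.Cover.glueMorphisms 𝒰 k hcompat
  have hh' : p ≫ h' = h := by
    refine Scheme.Cover.hom_ext (X.openCoverOfIsOpenCover (fun y => p ⁻¹ᵁ U y)
      (eq_top_iff.2 fun x _ => Opens.mem_iSup.2 ⟨p x, hy _⟩)) _ _ fun y => ?_
    show (p ⁻¹ᵁ U y).ι ≫ p ≫ h' = (p ⁻¹ᵁ U y).ι ≫ h
    rw [← morphismRestrict_ι_assoc, ← hk y]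
    exact congrArg ((p ∣_ U y) ≫ ·) (Scheme.Cover.ι_glueMorphisms 𝒰 k hcompat y)
  exact ⟨h', hh', fun h'' e => eq_of_surjective_of_injective p (surjective hp) hp.injective
    (e.trans hh'.symm)⟩

end GrothLib.SGA1Quot21
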