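import Groth.Agent.Lib.SGA1Quot21.Points
import Groth.Agent.Lib.SGA1Quot21.BaseChange
import Mathlib.AlgebraicGeometry.Morphisms.Separated
import Mathlib.AlgebraicGeometry.Morphisms.Finite
import Mathlib.AlgebraicGeometry.Noetherian
import Mathlib.AlgebraicGeometry.Morphisms.Proper
import Mathlib.RingTheory.Adjoin.Tower

/-!
# Properties descending to quotients by finite groups
-/

set_option autoImplicit false
set_option backward.isDefEq.respectTransparency false

universe u

open CategoryTheory CategoryTheory.Limits AlgebraicGeometry TopologicalSpace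

namespace GrothLib.SGA1Quot21

/-- The action on the spectrum of a ring with an action. -/
noncomputable def specAction (G A : Type u) [Group G] [CommRing A] [MulSemiringAction G A] :
    G →* Aut (Spec (CommRingCat.of A)) where
  toFun g :=
    { hom := Spec.map (CommRingCat.ofHom (MulSemiringAction.toRingHom G A g⁻¹))
      inv := Spec.map (CommRingCat.ofHom (MulSemiringAction.toRingHom G A g))
      hom_inv_id := by rw [← Spec.map_comp, ← Spec.map_id]; congr 1; ext a; simp
      inv_hom_id := by rw [← Spec.map_comp, ← Spec.map_id]; congr 1; ext a; simp }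
  map_one' := by
    refine Iso.ext ?_
    show Spec.map _ = 𝟙 _
    rw [← Spec.map_id]; congr 1; ext a; simp
  map_mul' g h := by
    refine Iso.ext ?_
    show Spec.map _ = Spec.map _ ≫ Spec.map _
    rw [← Spec.map_comp]; congr 1; ext a; simp [mul_smul]

theorem specAction_range (G A : Type u) [Group G] [CommRing A] [MulSemiringAction G A] :
    Set.range (fun g : G => (specAction G A g).hom) =
      Set.range (fun g : G => Spec.map (CommRingCat.ofHom (MulSemiringAction.toRingHom G A g))) := by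
  ext f
  constructor <;> rintro ⟨g, rfl⟩
  · exact ⟨g⁻¹, rfl⟩
  · exact ⟨g⁻¹, by simp [specAction]⟩

variable {X Y : Scheme.{u}} {G : Type u} [Group G] {ρ : G →* Aut X} {p : X ⟶ Y}
  (hp : SGA1.IsQuot ρ p)
include hp

variable [Finite G]

/-- An open subset of a quotient with affine preimage is affine. -/
theorem isAffineOpen_of_preimage {U : Y.Opens} (hU : IsAffineOpen (p ⁻¹ᵁ U)) : IsAffineOpen U := by
  letI := (p.app U).hom.toAlgebra
  letI := sectionsAction ρ p hp.inv U
  haveI := sections_isInvariant hp U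
  haveI := sections_smulComm ρ p hp.inv U
  haveI := sections_faithful hp U
  haveI : IsAffine (p ⁻¹ᵁ U).toScheme := hU
  have hS : SGA1.IsQuot (specAction G Γ(X, p ⁻¹ᵁ U)) (Spec.map (p.app U)) :=
    isQuot_Spec _ (specAction_range G Γ(X, p ⁻¹ᵁ U))
  let m : Spec Γ(X, p ⁻¹ᵁ U) ⟶ U.toScheme := hU.isoSpec.inv ≫ p ∣_ U
  have hm : ∀ g : G, (specAction G Γ(X, p ⁻¹ᵁ U) g).hom ≫ m = m := fun g => by
    rw [← cancel_mono U.ι]
    simp only [m, Category.assoc, morphismRestrict_ι, IsAffineOpen.isoSpec_inv_ι_assoc]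
    have e : (specAction G Γ(X, p ⁻¹ᵁ U) g).hom = Spec.map (act ρ p hp.inv U g) := by
      show Spec.map _ = _
      congr 1; ext a
      show (act ρ p hp.inv U g⁻¹⁻¹).hom a = _
      rw [inv_inv]
    rw [e, ← Category.assoc, SpecMap_act_fromSpec hp.inv hU, Category.assoc, hp.inv]
  obtain ⟨k, hk, -⟩ := existsUnique_desc hS m hm
  have hc : m ≫ U.toSpecΓ = Spec.map (p.app U) := by
    simp only [m, Category.assoc]
    rw [← Scheme.Opens.toSpecΓ_naturality, IsAffineOpen.isoSpec_inv_toSpecΓ_assoc]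
  have h1 : k ≫ U.toSpecΓ = 𝟙 _ :=
    eq_of_surjective_of_injective _ (surjective hS) hS.injective
      (by rw [reassoc_of% hk, hc, Category.comp_id])
  have hsurj : Function.Surjective (p ∣_ U) := by
    haveI : Surjective p := ⟨surjective hp⟩
    exact (MorphismProperty.of_isPullback (isPullback_morphismRestrict p U).flip ‹Surjective p›).surj
  have h2 : U.toSpecΓ ≫ k = 𝟙 _ :=
    eq_of_surjective_of_injective (p ∣_ U) hsurj (app_injective_restrict hp U) (by
      rw [← Scheme.Opens.toSpecΓ_naturality_assoc, hk]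
      simp only [m]
      rw [← hU.isoSpec_hom, Iso.hom_inv_id_assoc, Category.comp_id])
  haveI : IsIso U.toSpecΓ := ⟨k, h2, h1⟩
  exact IsAffine.of_isIso U.toSpecΓ

variable {Z : Scheme.{u}} (q : Y ⟶ Z)

theorem isAffineHom_of_comp [IsAffineHom (p ≫ q)] : IsAffineHom q :=
  ⟨fun V hV => isAffineOpen_of_preimage hp (by
    rw [← Scheme.Hom.comp_preimage]
    exact hV.preimage (p ≫ q))⟩

theorem isSeparated_of_comp [IsSeparated (p ≫ q)] : IsSeparated q := by
  haveI := isIntegralHom hp
  let μ : pullback (p ≫ q) (p ≫ q) ⟶ pullback q q :=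
    pullback.map (p ≫ q) (p ≫ q) q q p p (𝟙 _) (Category.comp_id _) (Category.comp_id _)
  haveI : UniversallyClosed μ :=
    MorphismProperty.pullbackMap (P := @UniversallyClosed) inferInstance inferInstance rfl rfl
  have hd : pullback.diagonal (p ≫ q) ≫ μ = p ≫ pullback.diagonal q := by
    apply pullback.hom_ext <;> simp [μ]
  have hr : IsClosed (Set.range (pullback.diagonal q)) := by
    have e : Set.range (pullback.diagonal q) = Set.range (pullback.diagonal (p ≫ q) ≫ μ) := by
      rw [hd]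
      ext z
      constructor
      · rintro ⟨y, rfl⟩
        obtain ⟨x, rfl⟩ := surjective hp y
        exact ⟨x, rfl⟩
      · rintro ⟨x, rfl⟩
        exact ⟨p x, rfl⟩
    rw [e]
    exact (pullback.diagonal (p ≫ q) ≫ μ).isClosedMap.isClosed_range
  exact ⟨IsClosedImmersion.of_isPreimmersion _ hr⟩

theorem isFinite_of_locallyOfFiniteType [LocallyOfFiniteType (p ≫ q)] : IsFinite p :=
  (IsFinite.iff_isIntegralHom_and_locallyOfFiniteType p).2
    ⟨isIntegralHom hp, locallyOfFiniteType_of_comp p q⟩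

theorem quasiCompact_of_comp [QuasiCompact (p ≫ q)] : QuasiCompact q := by
  refine ⟨fun U hU hc => ?_⟩
  rw [← (surjective hp).image_preimage (q ⁻¹' U), ← Set.preimage_comp]
  exact (QuasiCompact.isCompact_preimage (f := p ≫ q) U hU hc).image p.continuous

theorem locallyOfFiniteType_of_comp_quot [IsLocallyNoetherian Z] [LocallyOfFiniteType (p ≫ q)] :
    LocallyOfFiniteType q := by
  haveI := isFinite_of_locallyOfFiniteType hp q
  haveI := hp.affine
  rw [HasRingHomProperty.iff_appLE (P := @LocallyOfFiniteType)]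
  intro V U e
  have hft : ((p ≫ q).appLE V.1 (p ⁻¹ᵁ U.1) (p.preimage_mono e)).hom.FiniteType :=
    HasRingHomProperty.appLE @LocallyOfFiniteType (p ≫ q) inferInstance V
      ⟨_, U.2.preimage p⟩ (p.preimage_mono e)
  have e2 : (p ≫ q).appLE V.1 (p ⁻¹ᵁ U.1) (p.preimage_mono e) = q.appLE V.1 U.1 e ≫ p.app U.1 := by
    rw [Scheme.Hom.app_eq_appLE, Scheme.Hom.appLE_comp_appLE]
  rw [e2] at hft
  letI := (p.app U.1).hom.toAlgebra
  letI := (q.appLE V.1 U.1 e).hom.toAlgebra
  letI := (q.appLE V.1 U.1 e ≫ p.app U.1).hom.toAlgebra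
  haveI : IsScalarTower Γ(Z, V.1) Γ(Y, U.1) Γ(X, p ⁻¹ᵁ U.1) := .of_algebraMap_eq' rfl
  haveI := IsLocallyNoetherian.component_noetherian V
  haveI : Module.Finite Γ(Y, U.1) Γ(X, p ⁻¹ᵁ U.1) := p.finite_app U.1 U.2
  haveI : Algebra.FiniteType Γ(Z, V.1) Γ(X, p ⁻¹ᵁ U.1) := hft
  exact ⟨fg_of_fg_of_fg Γ(Z, V.1) Γ(Y, U.1) Γ(X, p ⁻¹ᵁ U.1) Algebra.FiniteType.out
    Module.Finite.fg_top (hp.injective U.1)⟩

end GrothLib.SGA1Quot21
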