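import Groth.Prelude.Def_SGA1
import Groth.Agent.Lib.SGA1Quot21.Ring
import Mathlib.AlgebraicGeometry.Morphisms.Integral

/-!
# Quotients by finite groups: sections over opens and reduction to affine opens
-/

set_option autoImplicit false
set_option backward.isDefEq.respectTransparency false

universe u

open CategoryTheory AlgebraicGeometry TopologicalSpace Opposite

namespace GrothLib.SGA1Quot21

variable {X Y : Scheme.{u}} {G : Type u} [Group G]

theorem rho_one (ρ : G →* Aut X) : (ρ 1).hom = 𝟙 X := by rw [map_one]; rfl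

theorem rho_mul (ρ : G →* Aut X) (g h : G) : (ρ (g * h)).hom = (ρ h).hom ≫ (ρ g).hom := by
  rw [map_mul]; rfl

theorem rho_hom_inv (ρ : G →* Aut X) (g : G) : (ρ g⁻¹).hom ≫ (ρ g).hom = 𝟙 X := by
  rw [← rho_mul, mul_inv_cancel, rho_one]

section Inv

variable (ρ : G →* Aut X) (p : X ⟶ Y) (hinv : ∀ g : G, (ρ g).hom ≫ p = p)

/-- Pulling back sections over a preimage along a group element. -/
noncomputable def act (U : Y.Opens) (g : G) : Γ(X, p ⁻¹ᵁ U) ⟶ Γ(X, p ⁻¹ᵁ U) :=
  (ρ g).hom.appLE (p ⁻¹ᵁ U) (p ⁻¹ᵁ U) (SGA1.preimage_le_of_inv ρ p hinv g U)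

theorem appLE_congr_hom {V W : X.Opens} {f f' : X ⟶ X} (h : f = f') (e : W ≤ f ⁻¹ᵁ V) :
    f.appLE V W e = f'.appLE V W (h ▸ e) := by subst h; rfl

theorem act_one (U : Y.Opens) : act ρ p hinv U 1 = 𝟙 _ := by
  rw [act, appLE_congr_hom (rho_one ρ)]
  simp only [Scheme.Hom.appLE, Scheme.Hom.id_app, Category.id_comp]
  exact X.presheaf.map_id _

theorem act_mul (U : Y.Opens) (g h : G) :
    act ρ p hinv U (g * h) = act ρ p hinv U g ≫ act ρ p hinv U h := by
  rw [act, act, act, Scheme.Hom.appLE_comp_appLE, appLE_congr_hom (rho_mul ρ g h)]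

theorem app_act (U : Y.Opens) (g : G) : p.app U ≫ act ρ p hinv U g = p.app U := by
  rw [act, ← Scheme.Hom.comp_appLE, appLE_congr_hom_YX (hinv g), Scheme.Hom.appLE_eq_app]
where
  appLE_congr_hom_YX {f f' : X ⟶ Y} {U : Y.Opens} {W : X.Opens} (h : f = f') {e : W ≤ f ⁻¹ᵁ U} :
    f.appLE U W e = f'.appLE U W (h ▸ e) := by subst h; rfl

theorem map_act {U V : Y.Opens} (i : V ≤ U) (g : G) :
    act ρ p hinv U g ≫ X.presheaf.map (homOfLE (p.preimage_mono i)).op =
      X.presheaf.map (homOfLE (p.preimage_mono i)).op ≫ act ρ p hinv V g := by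
  rw [act, act, Scheme.Hom.appLE_map, Scheme.Hom.map_appLE]

/-- A section over a preimage is invariant. -/
def IsInv (U : Y.Opens) (s : Γ(X, p ⁻¹ᵁ U)) : Prop := ∀ g : G, (act ρ p hinv U g).hom s = s

theorem isInv_app (U : Y.Opens) (b : Γ(Y, U)) : IsInv ρ p hinv U ((p.app U).hom b) := fun g => by
  rw [← CommRingCat.comp_apply, app_act]

theorem isInv_map {U V : Y.Opens} (i : V ≤ U) {s : Γ(X, p ⁻¹ᵁ U)} (hs : IsInv ρ p hinv U s) :
    IsInv ρ p hinv V ((X.presheaf.map (homOfLE (p.preimage_mono i)).op).hom s) := fun g => by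
  rw [← CommRingCat.comp_apply, ← map_act ρ p hinv i, CommRingCat.comp_apply, hs g]

/-- The action on sections, as an action of `G` by ring automorphisms. -/
@[reducible] noncomputable def sectionsAction (U : Y.Opens) : MulSemiringAction G Γ(X, p ⁻¹ᵁ U) where
  smul g a := (act ρ p hinv U g⁻¹).hom a
  one_smul a := by show (act ρ p hinv U 1⁻¹).hom a = a; rw [inv_one, act_one]; rfl
  mul_smul g h a := by
    show (act ρ p hinv U (g * h)⁻¹).hom a = (act ρ p hinv U g⁻¹).hom ((act ρ p hinv U h⁻¹).hom a)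
    rw [mul_inv_rev, act_mul, CommRingCat.comp_apply]
  smul_zero g := map_zero (act ρ p hinv U g⁻¹).hom
  smul_add g := map_add (act ρ p hinv U g⁻¹).hom
  smul_one g := map_one (act ρ p hinv U g⁻¹).hom
  smul_mul g := map_mul (act ρ p hinv U g⁻¹).hom

theorem smul_def (U : Y.Opens) (g : G) (a : Γ(X, p ⁻¹ᵁ U)) :
    letI := sectionsAction ρ p hinv U
    g • a = (act ρ p hinv U g⁻¹).hom a := rfl

theorem sections_smulComm (U : Y.Opens) :
    letI := (p.app U).hom.toAlgebra
    letI := sectionsAction ρ p hinv U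
    SMulCommClass G Γ(Y, U) Γ(X, p ⁻¹ᵁ U) := by
  letI := (p.app U).hom.toAlgebra
  letI := sectionsAction ρ p hinv U
  refine ⟨fun g b a => ?_⟩
  simp only [Algebra.smul_def, smul_mul']
  exact congrArg (· * g • a) (isInv_app ρ p hinv U b g⁻¹)

/-- The quotient property may be checked on any basis. -/
theorem isQuot_of_basis [IsAffineHom p] (P : Y.Opens → Prop)
    (hP : ∀ (U : Y.Opens) (y : Y), y ∈ U → ∃ W, P W ∧ y ∈ W ∧ W ≤ U)
    (hI : ∀ U : Y.Opens, P U → Function.Injective (p.app U).hom)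
    (hR : ∀ U : Y.Opens, P U → ∀ s, IsInv ρ p hinv U s → s ∈ Set.range (p.app U).hom) :
    SGA1.IsQuot ρ p := by
  have hcov : ∀ U : Y.Opens, U ≤ ⨆ W : {W : Y.Opens // P W ∧ W ≤ U}, W.1 := fun U x hx => by
    obtain ⟨W, hW, hxW, hle⟩ := hP U x hx
    exact Opens.mem_iSup.2 ⟨⟨W, hW, hle⟩, hxW⟩
  have hinj : ∀ U : Y.Opens, Function.Injective (p.app U).hom := fun U a b hab => by
    refine Y.sheaf.eq_of_locally_eq' (fun W : {W : Y.Opens // P W ∧ W ≤ U} => W.1) U
      (fun W => homOfLE W.2.2) (hcov U) a b fun W => hI _ W.2.1 ?_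
    show (p.app W.1).hom ((Y.presheaf.map _).hom a) = (p.app W.1).hom ((Y.presheaf.map _).hom b)
    rw [← CommRingCat.comp_apply, ← CommRingCat.comp_apply, p.naturality, CommRingCat.comp_apply,
      CommRingCat.comp_apply, hab]
  refine ⟨‹_›, hinv, hinj, fun U s => ⟨?_, fun hs => ?_⟩⟩
  · rintro ⟨b, rfl⟩; exact isInv_app ρ p hinv U b
  let ι := {W : Y.Opens // P W ∧ W ≤ U}
  choose t ht using fun W : ι => hR W.1 W.2.1 _ (isInv_map ρ p hinv W.2.2 (s := s) hs)
  have hcompat : TopCat.Presheaf.IsCompatible Y.sheaf.1 (fun W : ι => W.1) t := fun V W => hinj _ (by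
    show (p.app (V.1 ⊓ W.1)).hom ((Y.presheaf.map _).hom (t V)) =
      (p.app (V.1 ⊓ W.1)).hom ((Y.presheaf.map _).hom (t W))
    rw [← CommRingCat.comp_apply, ← CommRingCat.comp_apply, p.naturality, p.naturality,
      CommRingCat.comp_apply, CommRingCat.comp_apply, ht, ht, ← CommRingCat.comp_apply,
      ← CommRingCat.comp_apply, ← Functor.map_comp, ← Functor.map_comp]
    rfl)
  obtain ⟨b, hb, -⟩ := Y.sheaf.existsUnique_gluing' (fun W : ι => W.1) U (fun W => homOfLE W.2.2)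
    (hcov U) t hcompat
  refine ⟨b, X.sheaf.eq_of_locally_eq' (fun W : ι => p ⁻¹ᵁ W.1) (p ⁻¹ᵁ U)
    (fun W => homOfLE (p.preimage_mono W.2.2)) (fun x hx => ?_) _ _ fun W => ?_⟩
  · obtain ⟨W, hW⟩ := Opens.mem_iSup.1 (hcov U hx)
    exact Opens.mem_iSup.2 ⟨W, hW⟩
  · show (X.presheaf.map _).hom ((p.app U).hom b) = (X.presheaf.map _).hom s
    rw [← ht W, ← hb W, ← CommRingCat.comp_apply]
    exact (congrArg (fun f => (CommRingCat.Hom.hom f) b) (p.naturality (homOfLE W.2.2).op)).symm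

/-- The quotient property may be checked on affine opens. -/
theorem isQuot_of_affine [IsAffineHom p]
    (hI : ∀ U : Y.Opens, IsAffineOpen U → Function.Injective (p.app U).hom)
    (hR : ∀ U : Y.Opens, IsAffineOpen U → ∀ s, IsInv ρ p hinv U s → s ∈ Set.range (p.app U).hom) :
    SGA1.IsQuot ρ p :=
  isQuot_of_basis ρ p hinv IsAffineOpen (fun U y hy => by
    obtain ⟨_, ⟨W, hW, rfl⟩, hyW, hle⟩ := Y.isBasis_affineOpens.exists_subset_of_mem_open hy U.2
    exact ⟨W, hW, hyW, hle⟩) hI hR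

end Inv

variable {ρ : G →* Aut X} {p : X ⟶ Y} (hp : SGA1.IsQuot ρ p)
include hp

theorem sections_isInvariant (U : Y.Opens) :
    letI := (p.app U).hom.toAlgebra
    letI := sectionsAction ρ p hp.inv U
    Algebra.IsInvariant Γ(Y, U) Γ(X, p ⁻¹ᵁ U) G := by
  letI := (p.app U).hom.toAlgebra
  letI := sectionsAction ρ p hp.inv U
  refine ⟨fun a ha => (hp.range_iff U a).2 fun g => ?_⟩
  have := ha g⁻¹
  rw [smul_def, inv_inv] at this
  exact this

theorem sections_faithful (U : Y.Opens) :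
    letI := (p.app U).hom.toAlgebra
    FaithfulSMul Γ(Y, U) Γ(X, p ⁻¹ᵁ U) := by
  letI := (p.app U).hom.toAlgebra
  exact (faithfulSMul_iff_algebraMap_injective _ _).2 (hp.injective U)

theorem isIntegralHom [Finite G] : IsIntegralHom p := by
  rw [isIntegralHom_iff]
  refine ⟨hp.affine, fun U hU => ?_⟩
  letI := (p.app U).hom.toAlgebra
  letI := sectionsAction ρ p hp.inv U
  haveI := sections_isInvariant hp U
  haveI := sections_smulComm ρ p hp.inv U
  exact (Algebra.IsInvariant.isIntegral Γ(Y, U) Γ(X, p ⁻¹ᵁ U) G).isIntegral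

end GrothLib.SGA1Quot21
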