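import Groth.Agent.Lib.SGA1Quot21.Exists
import Mathlib.AlgebraicGeometry.Gluing

/-!
# Gluing the local quotients
-/

set_option autoImplicit false
set_option backward.isDefEq.respectTransparency false

universe u

open CategoryTheory CategoryTheory.Limits AlgebraicGeometry TopologicalSpace

namespace GrothLib.SGA1Quot21

variable {X : Scheme.{u}} {G : Type u} [Group G] [Finite G] (ρ : G →* Aut X)

theorem exists_locQuot (W : InvAffine ρ) :
    ∃ (Q : Scheme.{u}) (π : W.1.toScheme ⟶ Q), SGA1.IsQuot (restrictAction ρ W.1 W.2.2) π :=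
  haveI : IsAffine W.1.toScheme := W.2.1
  exists_quot_of_isAffine _

noncomputable def locObj (W : InvAffine ρ) : Scheme.{u} := (exists_locQuot ρ W).choose

noncomputable def locMap (W : InvAffine ρ) : W.1.toScheme ⟶ locObj ρ W :=
  (exists_locQuot ρ W).choose_spec.choose

theorem locQuot (W : InvAffine ρ) : SGA1.IsQuot (restrictAction ρ W.1 W.2.2) (locMap ρ W) :=
  (exists_locQuot ρ W).choose_spec.choose_spec

theorem comp_inv {W W' : InvAffine ρ} (h : W.1 ≤ W'.1) (g : G) :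
    (restrictAction ρ W.1 W.2.2 g).hom ≫ X.homOfLE h ≫ locMap ρ W' = X.homOfLE h ≫ locMap ρ W' := by
  have : (restrictAction ρ W.1 W.2.2 g).hom ≫ X.homOfLE h =
      X.homOfLE h ≫ (restrictAction ρ W'.1 W'.2.2 g).hom := by
    rw [← cancel_mono W'.1.ι, Category.assoc, Category.assoc, Scheme.homOfLE_ι, restrictAction_ι,
      restrictAction_ι, Scheme.homOfLE_ι_assoc]
  rw [reassoc_of% this, (locQuot ρ W').inv]

noncomputable def trans {W W' : InvAffine ρ} (h : W.1 ≤ W'.1) : locObj ρ W ⟶ locObj ρ W' :=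
  (existsUnique_desc (locQuot ρ W) (X.homOfLE h ≫ locMap ρ W') (comp_inv ρ h)).choose

theorem map_trans {W W' : InvAffine ρ} (h : W.1 ≤ W'.1) :
    locMap ρ W ≫ trans ρ h = X.homOfLE h ≫ locMap ρ W' :=
  (existsUnique_desc (locQuot ρ W) (X.homOfLE h ≫ locMap ρ W') (comp_inv ρ h)).choose_spec.1

theorem hom_ext_loc {W : InvAffine ρ} {Z : Scheme.{u}} {a b : locObj ρ W ⟶ Z}
    (h : locMap ρ W ≫ a = locMap ρ W ≫ b) : a = b :=
  eq_of_surjective_of_injective _ (surjective (locQuot ρ W)) (locQuot ρ W).injective h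

instance isOpenImmersion_trans {W W' : InvAffine ρ} (h : W.1 ≤ W'.1) : IsOpenImmersion (trans ρ h) := by
  let i := X.homOfLE h
  let σ := restrictAction ρ W'.1 W'.2.2
  have hσ : ∀ g : G, (σ g).hom ⁻¹ᵁ i.opensRange = i.opensRange := fun g => by
    rw [Scheme.opensRange_homOfLE, ← Scheme.Hom.comp_preimage, restrictAction_ι,
      Scheme.Hom.comp_preimage, W.2.2]
  obtain ⟨U, hU⟩ := exists_opens_preimage (locQuot ρ W') i.opensRange hσ
  have hUσ : ∀ g : G, (σ g).hom ⁻¹ᵁ (locMap ρ W' ⁻¹ᵁ U) = locMap ρ W' ⁻¹ᵁ U := fun g => by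
    rw [hU, hσ g]
  have hq := isQuot_restrict (locQuot ρ W') U (restrictAction σ _ hUσ) (restrictAction_ι σ _ hUσ)
  let e : W.1.toScheme ⟶ (locMap ρ W' ⁻¹ᵁ U).toScheme :=
    IsOpenImmersion.lift (locMap ρ W' ⁻¹ᵁ U).ι i (by
      rw [Scheme.Opens.range_ι, hU]; exact subset_rfl)
  have he : e ≫ (locMap ρ W' ⁻¹ᵁ U).ι = i := IsOpenImmersion.lift_fac _ _ _
  let e' : (locMap ρ W' ⁻¹ᵁ U).toScheme ⟶ W.1.toScheme :=
    IsOpenImmersion.lift i (locMap ρ W' ⁻¹ᵁ U).ι (by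
      rw [Scheme.Opens.range_ι, hU]; exact subset_rfl)
  have he' : e' ≫ i = (locMap ρ W' ⁻¹ᵁ U).ι := IsOpenImmersion.lift_fac _ _ _
  have hr : Set.range (trans ρ h) ⊆ Set.range U.ι := by
    rw [Scheme.Opens.range_ι]
    rintro _ ⟨y, rfl⟩
    obtain ⟨x, rfl⟩ := surjective (locQuot ρ W) y
    rw [← Scheme.Hom.comp_apply, map_trans, Scheme.Hom.comp_apply]
    have : i x ∈ i.opensRange := ⟨x, rfl⟩
    rw [← hU] at this
    exact this
  let k := IsOpenImmersion.lift U.ι (trans ρ h) hr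
  have hk : k ≫ U.ι = trans ρ h := IsOpenImmersion.lift_fac _ _ _
  have hek : locMap ρ W ≫ k = e ≫ (locMap ρ W' ∣_ U) := by
    rw [← cancel_mono U.ι, Category.assoc, hk, map_trans, Category.assoc, morphismRestrict_ι,
      reassoc_of% he]
  obtain ⟨b, hb, -⟩ := existsUnique_desc hq (e' ≫ locMap ρ W) fun g => by
    have : (restrictAction σ _ hUσ g).hom ≫ e' = e' ≫ (restrictAction ρ W.1 W.2.2 g).hom := by
      rw [← cancel_mono i, ← cancel_mono W'.1.ι]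
      simp only [Category.assoc, i, Scheme.homOfLE_ι, restrictAction_ι]
      have e2 : e' ≫ W.1.ι = (locMap ρ W' ⁻¹ᵁ U).ι ≫ W'.1.ι := by
        rw [← he', Category.assoc, Scheme.homOfLE_ι]
      rw [reassoc_of% e2, e2, ← Category.assoc, restrictAction_ι, Category.assoc, restrictAction_ι]
    rw [reassoc_of% this, (locQuot ρ W).inv]
  haveI : IsIso k := ⟨b, hom_ext_loc ρ (by
      rw [reassoc_of% hek, hb, Category.comp_id, ← Category.assoc,
        show e ≫ e' = 𝟙 _ by rw [← cancel_mono i, Category.assoc, he', he, Category.id_comp],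
        Category.id_comp]),
    eq_of_surjective_of_injective _ (surjective hq) hq.injective (by
      rw [reassoc_of% hb, hek, Category.comp_id, ← Category.assoc,
        show e' ≫ e = 𝟙 _ by rw [← cancel_mono (locMap ρ W' ⁻¹ᵁ U).ι, Category.assoc, he, he', Category.id_comp],
        Category.id_comp])⟩
  rw [← hk]
  infer_instance

/-- The diagram of local quotients. -/
noncomputable abbrev quotDiagram : InvAffine ρ ⥤ Scheme.{u} where
  obj W := locObj ρ W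
  map f := trans ρ f.le
  map_id W := hom_ext_loc ρ (by rw [map_trans, Scheme.homOfLE_rfl, Category.id_comp, Category.comp_id])
  map_comp {U V W} f g := hom_ext_loc ρ (by
    rw [map_trans, reassoc_of% (map_trans ρ f.le), map_trans, Scheme.homOfLE_homOfLE_assoc])

instance {i j : InvAffine ρ} (f : i ⟶ j) : IsOpenImmersion ((quotDiagram ρ).map f) :=
  isOpenImmersion_trans ρ f.le

variable {ρ} (h : ∀ x : X, ∃ U : X.Opens, IsAffineOpen U ∧ ∀ g : G, (ρ g).hom x ∈ U)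

theorem trans_apply {i k : InvAffine ρ} (hik : i.1 ≤ k.1) (y : i.1) :
    trans ρ hik (locMap ρ i y) = locMap ρ k ⟨y.1, hik y.2⟩ := by
  rw [← Scheme.Hom.comp_apply, map_trans, Scheme.Hom.comp_apply]
  congr 1
  apply Subtype.ext
  exact congr($(Scheme.homOfLE_ι X hik) y)

include h

theorem exists_common (i j : InvAffine ρ) (yi : i.1) (yj : j.1) (k : InvAffine ρ) (hi : i.1 ≤ k.1)
    (hj : j.1 ≤ k.1) (he : locMap ρ k ⟨yi.1, hi yi.2⟩ = locMap ρ k ⟨yj.1, hj yj.2⟩) :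
    ∃ (l : InvAffine ρ) (hli : l.1 ≤ i.1) (hlj : l.1 ≤ j.1) (z : l.1),
      trans ρ hli (locMap ρ l z) = locMap ρ i yi ∧ trans ρ hlj (locMap ρ l z) = locMap ρ j yj := by
  obtain ⟨g, hg⟩ := (apply_eq_iff (locQuot ρ k) _ _).1 he
  have hg' : (ρ g).hom yi.1 = yj.1 := by
    have := congrArg k.1.ι hg
    rw [← Scheme.Hom.comp_apply, restrictAction_ι, Scheme.Hom.comp_apply] at this
    exact this
  have hyij : yi.1 ∈ i.1 ⊓ j.1 := ⟨yi.2, by
    have : yi.1 ∈ (ρ g).hom ⁻¹ᵁ j.1 := by show (ρ g).hom yi.1 ∈ j.1; rw [hg']; exact yj.2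
    rwa [j.2.2] at this⟩
  obtain ⟨l, hyl, hl⟩ := exists_invAffine ρ h (i.1 ⊓ j.1)
    (fun g => by rw [Scheme.Hom.preimage_inf, i.2.2, j.2.2]) yi.1 hyij
  refine ⟨l, hl.trans inf_le_left, hl.trans inf_le_right, ⟨yi.1, hyl⟩, trans_apply _ _, ?_⟩
  rw [trans_apply]
  refine (apply_eq_iff (locQuot ρ j) _ _).2 ⟨g, Subtype.ext ?_⟩
  show j.1.ι _ = _
  rw [← Scheme.Hom.comp_apply, restrictAction_ι, Scheme.Hom.comp_apply]
  exact hg'

theorem isLocallyDirected : ((quotDiagram ρ) ⋙ Scheme.forget).IsLocallyDirected := by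
  constructor
  intro i j k fi fj xi xj hx
  obtain ⟨yi, rfl⟩ := surjective (locQuot ρ i) xi
  obtain ⟨yj, rfl⟩ := surjective (locQuot ρ j) xj
  change trans ρ fi.le _ = trans ρ fj.le _ at hx
  rw [trans_apply, trans_apply] at hx
  obtain ⟨l, hli, hlj, z, e₁, e₂⟩ := exists_common h i j yi yj k fi.le fj.le hx
  exact ⟨l, homOfLE hli, homOfLE hlj, locMap ρ l z, e₁, e₂⟩

theorem exists_quot : ∃ (Y : Scheme.{u}) (p : X ⟶ Y), SGA1.IsQuot ρ p := by
  haveI := isLocallyDirected h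
  choose Wx hxW _ using fun x : X => exists_invAffine ρ h ⊤ (fun g => rfl) x trivial
  let D := quotDiagram ρ
  let f : ∀ W : InvAffine ρ, W.1.toScheme ⟶ colimit D := fun W => locMap ρ W ≫ colimit.ι D W
  have hf : ∀ {l W : InvAffine ρ} (hl : l.1 ≤ W.1), X.homOfLE hl ≫ f W = f l := fun {l W} hl => by
    show X.homOfLE hl ≫ locMap ρ W ≫ colimit.ι D W = locMap ρ l ≫ colimit.ι D l
    rw [← reassoc_of% (map_trans ρ hl)]
    exact congrArg _ (colimit.w D (homOfLE hl : l ⟶ W))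
  let 𝒰 := X.openCoverOfIsOpenCover (fun x => (Wx x).1)
    (top_le_iff.1 fun x _ => Opens.mem_iSup.2 ⟨x, hxW x⟩)
  have hcompat : ∀ a b : X, pullback.fst (Wx a).1.ι (Wx b).1.ι ≫ f (Wx a) =
      pullback.snd (Wx a).1.ι (Wx b).1.ι ≫ f (Wx b) := by
    intro a b
    let O := (Wx a).1 ⊓ (Wx b).1
    have h0 : X.homOfLE (inf_le_left : O ≤ (Wx a).1) ≫ f (Wx a) =
        X.homOfLE (inf_le_right : O ≤ (Wx b).1) ≫ f (Wx b) := by
      choose l hzl hl using fun z : O.toScheme => exists_invAffine ρ h O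
        (fun g => by rw [Scheme.Hom.preimage_inf, (Wx a).2.2, (Wx b).2.2]) z.1 z.2
      let 𝒱 := O.toScheme.openCoverOfIsOpenCover (fun z => O.ι ⁻¹ᵁ (l z).1)
        (top_le_iff.mp fun z _ => Opens.mem_iSup.mpr ⟨z, hzl z⟩)
      refine Scheme.Cover.hom_ext 𝒱 _ _ fun z => ?_
      show (O.ι ⁻¹ᵁ (l z).1).ι ≫ _ = (O.ι ⁻¹ᵁ (l z).1).ι ≫ _
      have e : (O.ι ⁻¹ᵁ (l z).1).ι = (O.ι ∣_ (l z).1) ≫ X.homOfLE (hl z) := by
        rw [← cancel_mono O.ι, Category.assoc, Scheme.homOfLE_ι, morphismRestrict_ι]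
      rw [e, Category.assoc, Category.assoc, Scheme.homOfLE_homOfLE_assoc, Scheme.homOfLE_homOfLE_assoc,
        hf, hf]
    let m : pullback (Wx a).1.ι (Wx b).1.ι ⟶ O := IsOpenImmersion.lift O.ι
      (pullback.fst (Wx a).1.ι (Wx b).1.ι ≫ (Wx a).1.ι) (by
        rw [Scheme.Opens.range_ι]
        rintro _ ⟨z, rfl⟩
        refine ⟨(pullback.fst (Wx a).1.ι (Wx b).1.ι z).2, ?_⟩
        rw [pullback.condition]
        exact (pullback.snd (Wx a).1.ι (Wx b).1.ι z).2)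
    have hm : m ≫ O.ι = pullback.fst (Wx a).1.ι (Wx b).1.ι ≫ (Wx a).1.ι := IsOpenImmersion.lift_fac _ _ _
    have h1 : m ≫ X.homOfLE inf_le_left = pullback.fst (Wx a).1.ι (Wx b).1.ι := by
      rw [← cancel_mono (Wx a).1.ι, Category.assoc, Scheme.homOfLE_ι, hm]
    have h2 : m ≫ X.homOfLE inf_le_right = pullback.snd (Wx a).1.ι (Wx b).1.ι := by
      rw [← cancel_mono (Wx b).1.ι, Category.assoc, Scheme.homOfLE_ι, hm, pullback.condition]
    rw [← h1, ← h2, Category.assoc, Category.assoc, h0]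
  let p : X ⟶ colimit D := Scheme.Cover.glueMorphisms 𝒰 (fun x => f (Wx x)) hcompat
  have hp0 : ∀ x, (Wx x).1.ι ≫ p = f (Wx x) := fun x => Scheme.Cover.ι_glueMorphisms 𝒰 _ _ x
  have hpW : ∀ W : InvAffine ρ, W.1.ι ≫ p = f W := by
    intro W
    choose l hzl hl using fun z : W.1.toScheme => exists_invAffine ρ h (W.1 ⊓ (Wx z.1).1)
      (fun g => by rw [Scheme.Hom.preimage_inf, W.2.2, (Wx z.1).2.2]) z.1 ⟨z.2, hxW z.1⟩
    let 𝒱 := W.1.toScheme.openCoverOfIsOpenCover (fun z => W.1.ι ⁻¹ᵁ (l z).1)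
      (top_le_iff.mp fun z _ => Opens.mem_iSup.mpr ⟨z, hzl z⟩)
    refine Scheme.Cover.hom_ext 𝒱 _ _ fun z => ?_
    show (W.1.ι ⁻¹ᵁ (l z).1).ι ≫ _ = (W.1.ι ⁻¹ᵁ (l z).1).ι ≫ _
    have e : (W.1.ι ⁻¹ᵁ (l z).1).ι = (W.1.ι ∣_ (l z).1) ≫ X.homOfLE ((hl z).trans inf_le_left) := by
      rw [← cancel_mono W.1.ι, Category.assoc, Scheme.homOfLE_ι, morphismRestrict_ι]
    rw [e, Category.assoc, Category.assoc, hf, Scheme.homOfLE_ι_assoc]
    congr 1
    rw [← Scheme.homOfLE_ι X ((hl z).trans inf_le_right), Category.assoc, hp0, hf]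
  have hrange : ∀ W : InvAffine ρ, p ⁻¹ᵁ (colimit.ι D W).opensRange = W.1 := by
    intro W
    ext x
    constructor
    · rintro ⟨w, hw⟩
      have hpx : p x = colimit.ι D (Wx x) (locMap ρ (Wx x) ⟨x, hxW x⟩) :=
        congr($(hp0 x) ⟨x, hxW x⟩)
      rw [hpx, Scheme.IsLocallyDirected.ι_eq_ι_iff] at hw
      obtain ⟨l, fi, fj, z, -, hz⟩ := hw
      obtain ⟨v, rfl⟩ := surjective (locQuot ρ l) z
      change trans ρ fj.le _ = _ at hz
      rw [trans_apply] at hz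
      obtain ⟨g, hg⟩ := (apply_eq_iff (locQuot ρ (Wx x)) _ _).1 hz
      have hg' : (ρ g).hom v.1 = x := by
        have := congrArg (Wx x).1.ι hg
        rw [← Scheme.Hom.comp_apply, restrictAction_ι, Scheme.Hom.comp_apply] at this
        exact this
      have hv : v.1 ∈ (ρ g).hom ⁻¹ᵁ W.1 := by rw [W.2.2]; exact fi.le v.2
      show x ∈ W.1
      rw [← hg']
      exact hv
    · intro hx
      exact ⟨locMap ρ W ⟨x, hx⟩, (congr($(hpW W) ⟨x, hx⟩)).symm⟩
  have hsq : ∀ W : InvAffine ρ, IsPullback (locMap ρ W) W.1.ι (colimit.ι D W) p := fun W =>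
    IsOpenImmersion.isPullback _ _ _ _ (hpW W) (by
      rw [Scheme.Opens.opensRange_ι]; exact hrange W)
  haveI : IsAffineHom p := by
    rw [IsZariskiLocalAtTarget.iff_of_openCover (P := @IsAffineHom)
      (Scheme.IsLocallyDirected.openCover D)]
    intro W
    haveI := (locQuot ρ W).affine
    exact
      (MorphismProperty.arrow_mk_iso_iff @IsAffineHom (Arrow.isoMk' (locMap ρ W)
        (pullback.snd p (colimit.ι D W)) (hsq W).flip.isoPullback (Iso.refl _) (by simp))).1 ‹_›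
  have hinv : ∀ g : G, (ρ g).hom ≫ p = p := by
    intro g
    refine Scheme.Cover.hom_ext 𝒰 _ _ fun x => ?_
    show (Wx x).1.ι ≫ (ρ g).hom ≫ p = (Wx x).1.ι ≫ p
    rw [← reassoc_of% (restrictAction_ι ρ (Wx x).1 (Wx x).2.2 g), hp0]
    show _ ≫ locMap ρ _ ≫ _ = locMap ρ _ ≫ _
    rw [reassoc_of% ((locQuot ρ (Wx x)).inv g)]
  have key : ∀ (W : InvAffine ρ) (U : (colimit D).Opens), U ≤ (colimit.ι D W).opensRange →
      Function.Injective (p.app U).hom ∧ ∀ s, IsInv ρ p hinv U s → s ∈ Set.range (p.app U).hom := by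
    intro W U hU
    let ι' := colimit.ι D W
    let V := ι' ⁻¹ᵁ U
    have hle : locMap ρ W ⁻¹ᵁ V ≤ W.1.ι ⁻¹ᵁ (p ⁻¹ᵁ U) := by
      rw [← Scheme.Hom.comp_preimage, ← Scheme.Hom.comp_preimage, hpW W]
    have hcomm : p.app U ≫ W.1.ι.appLE (p ⁻¹ᵁ U) (locMap ρ W ⁻¹ᵁ V) hle =
        ι'.app U ≫ (locMap ρ W).app V := by
      rw [Scheme.Hom.app_eq_appLE, Scheme.Hom.app_eq_appLE, Scheme.Hom.app_eq_appLE,
        Scheme.Hom.appLE_comp_appLE, Scheme.Hom.appLE_comp_appLE, appLE_congr_XY' (hpW W)]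
    haveI : IsIso (ι'.app U) := Scheme.Hom.isIso_app _ _ hU
    haveI : IsIso (W.1.ι.appLE (p ⁻¹ᵁ U) (locMap ρ W ⁻¹ᵁ V) hle) := by
      have e : W.1.ι ⁻¹ᵁ (p ⁻¹ᵁ U) = locMap ρ W ⁻¹ᵁ V := by
        rw [← Scheme.Hom.comp_preimage, ← Scheme.Hom.comp_preimage, hpW W]
      haveI : IsIso (W.1.ι.app (p ⁻¹ᵁ U)) := Scheme.Hom.isIso_app _ _ (by
        rw [Scheme.Opens.opensRange_ι, ← hrange W]; exact p.preimage_mono hU)
      rw [Scheme.Hom.appLE, show (homOfLE hle).op = (eqToHom e.symm).op from rfl]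
      infer_instance
    have hφ := (ConcreteCategory.bijective_of_isIso (W.1.ι.appLE (p ⁻¹ᵁ U) (locMap ρ W ⁻¹ᵁ V) hle))
    have hψ := (ConcreteCategory.bijective_of_isIso (ι'.app U))
    have hc : ∀ b, (W.1.ι.appLE (p ⁻¹ᵁ U) (locMap ρ W ⁻¹ᵁ V) hle).hom ((p.app U).hom b) =
        ((locMap ρ W).app V).hom ((ι'.app U).hom b) := fun b =>
      congrArg (fun m => (CommRingCat.Hom.hom m) b) hcomm
    refine ⟨fun a b e => hψ.1 ((locQuot ρ W).injective V ?_), fun s hs => ?_⟩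
    · exact (hc a).symm.trans ((congrArg _ e).trans (hc b))
    · obtain ⟨b', hb'⟩ := ((locQuot ρ W).range_iff V
        ((W.1.ι.appLE (p ⁻¹ᵁ U) (locMap ρ W ⁻¹ᵁ V) hle).hom s)).2 fun g => by
          conv_rhs => rw [← hs g]
          rw [← CommRingCat.comp_apply, ← CommRingCat.comp_apply, act, Scheme.Hom.appLE_comp_appLE,
            Scheme.Hom.appLE_comp_appLE, appLE_congr_XY' (restrictAction_ι ρ W.1 W.2.2 g)]
      obtain ⟨b, rfl⟩ := hψ.2 b'
      exact ⟨b, hφ.1 ((hc b).trans hb')⟩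
  refine ⟨_, p, isQuot_of_basis ρ p hinv
    (fun U => ∃ W : InvAffine ρ, U ≤ (colimit.ι D W).opensRange) (fun U y hy => ?_)
    (fun U ⟨W, hW⟩ => (key W U hW).1) fun U ⟨W, hW⟩ => (key W U hW).2⟩
  obtain ⟨W, w, rfl⟩ := (Scheme.IsLocallyDirected.openCover D).exists_eq y
  exact ⟨U ⊓ (colimit.ι D W).opensRange, ⟨W, inf_le_right⟩, ⟨hy, ⟨w, rfl⟩⟩, inf_le_left⟩
where
  appLE_congr_XY' {X Y : Scheme.{u}} {f f' : X ⟶ Y} (h : f = f') {V : Y.Opens} {W : X.Opens}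
      {e : W ≤ f ⁻¹ᵁ V} : f.appLE V W e = f'.appLE V W (h ▸ e) := by subst h; rfl

end GrothLib.SGA1Quot21
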