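import Groth.Agent.Lib.SGA1Quot21.Points
import Groth.Agent.Lib.SGA1Quot21.Galois
import Groth.Agent.Lib.FEt21.Basic
import Mathlib.AlgebraicGeometry.Morphisms.FlatMono
import Mathlib.AlgebraicGeometry.Limits

/-!
# Quotients by free actions of finite groups
-/

set_option autoImplicit false
set_option backward.isDefEq.respectTransparency false

universe u

open CategoryTheory CategoryTheory.Limits AlgebraicGeometry TopologicalSpace

namespace GrothLib.SGA1Quot21

variable {X Y : Scheme.{u}} {G : Type u} [Group G] {ρ : G →* Aut X} {p : X ⟶ Y}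

/-- No nontrivial element fixes a geometric point. -/
def IsFree (ρ : G →* Aut X) : Prop :=
  ∀ (K : Type u) [Field K] [IsAlgClosed K] (ξ : Spec (CommRingCat.of K) ⟶ X) (g : G),
    ξ ≫ (ρ g).hom = ξ → g = 1

variable [Finite G] (hp : SGA1.IsQuot ρ p) (hfree : IsFree ρ)
include hp hfree

theorem span_eq_top {U : Y.Opens} (hU : IsAffineOpen U) (g : G) (hg : g ≠ 1) :
    letI := sectionsAction ρ p hp.inv U
    Ideal.span (Set.range fun a : Γ(X, p ⁻¹ᵁ U) => g • a - a) = ⊤ := by
  letI := sectionsAction ρ p hp.inv U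
  haveI := hp.affine
  have hpU : IsAffineOpen (p ⁻¹ᵁ U) := hU.preimage p
  by_contra hne
  obtain ⟨m, hm, hle⟩ := Ideal.exists_le_maximal _ hne
  letI := Ideal.Quotient.field m
  let ψ : Γ(X, p ⁻¹ᵁ U) ⟶ CommRingCat.of (AlgebraicClosure (Γ(X, p ⁻¹ᵁ U) ⧸ m)) :=
    CommRingCat.ofHom ((algebraMap (Γ(X, p ⁻¹ᵁ U) ⧸ m) _).comp (Ideal.Quotient.mk m))
  have hψ : act ρ p hp.inv U g⁻¹ ≫ ψ = ψ := by
    ext a
    exact congrArg (algebraMap (Γ(X, p ⁻¹ᵁ U) ⧸ m) _)
      (Ideal.Quotient.eq.2 (hle (Ideal.subset_span ⟨a, rfl⟩)))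
  refine hg (inv_eq_one.1 (hfree _ (Spec.map ψ ≫ hpU.fromSpec) g⁻¹ ?_))
  rw [Category.assoc, ← SpecMap_act_fromSpec hp.inv hpU, ← Spec.map_comp_assoc, hψ]

theorem isFinite_of_free : IsFinite p := by
  rw [isFinite_iff]
  refine ⟨hp.affine, fun U hU => ?_⟩
  letI := (p.app U).hom.toAlgebra
  letI := sectionsAction ρ p hp.inv U
  haveI := sections_isInvariant hp U
  haveI := sections_smulComm ρ p hp.inv U
  haveI := sections_faithful hp U
  exact (finite_projective (B := Γ(Y, U)) (span_eq_top hp hfree hU)).1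

theorem etale_of_free : Etale p := by
  haveI := hp.affine
  rw [HasRingHomProperty.iff_exists_appLE (P := @Etale)
    (RingHom.Etale.stableUnderComposition.stableUnderCompositionWithLocalizationAway
      (fun _ _ _ _ _ r _ => RingHom.etale_algebraMap.2 (Algebra.Etale.of_isLocalizationAway r))).1]
  intro x
  obtain ⟨_, ⟨U, hU, rfl⟩, hyU, -⟩ := Y.isBasis_affineOpens.exists_subset_of_mem_open
    (Set.mem_univ (p x)) isOpen_univ
  refine ⟨⟨U, hU⟩, ⟨p ⁻¹ᵁ U, hU.preimage p⟩, hyU, le_rfl, ?_⟩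
  rw [Scheme.Hom.appLE_eq_app]
  letI := (p.app U).hom.toAlgebra
  letI := sectionsAction ρ p hp.inv U
  haveI := sections_isInvariant hp U
  haveI := sections_smulComm ρ p hp.inv U
  haveI := sections_faithful hp U
  exact SGA1Quot21.etale (B := Γ(Y, U)) (span_eq_top hp hfree hU)

omit [Finite G] hp hfree in
/-- Sections of an étale map through exactly one of which every geometric point factors. -/
theorem isIso_sigmaDesc_sections {Z W : Scheme.{u}} {ι : Type u} (π : Z ⟶ W) [Etale π]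
    (s : ι → (W ⟶ Z)) (hs : ∀ i, s i ≫ π = 𝟙 W)
    (hex : ∀ (K : Type u) [Field K] [IsAlgClosed K] (τ : Spec (CommRingCat.of K) ⟶ Z),
      ∃ i, (τ ≫ π) ≫ s i = τ)
    (huniq : ∀ (K : Type u) [Field K] [IsAlgClosed K] (t : Spec (CommRingCat.of K) ⟶ W) (i j : ι),
      t ≫ s i = t ≫ s j → i = j) :
    IsIso (Sigma.desc s : (∐ fun _ : ι => W) ⟶ Z) := by
  haveI : ∀ i, IsOpenImmersion (s i) := fun i => by
    haveI : IsSplitMono (s i) := IsSplitMono.mk' ⟨π, hs i⟩
    haveI : Etale (s i ≫ π) := by rw [hs]; infer_instance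
    haveI : Etale (s i) := Etale.of_comp (s i) π
    exact IsOpenImmersion.of_flat_of_mono (s i)
  have hpt : ∀ (i : ι) (z : Z), z ∈ Set.range (s i) →
      (FEt21.geomPt Z z ≫ π) ≫ s i = FEt21.geomPt Z z := by
    intro i z hz
    have hr : Set.range (FEt21.geomPt Z z) ⊆ Set.range (s i) := by
      rintro _ ⟨a, rfl⟩
      rwa [Subsingleton.elim a default, FEt21.geomPt_default]
    have e := IsOpenImmersion.lift_fac (s i) (FEt21.geomPt Z z) hr
    conv_lhs => rw [← e]
    rw [Category.assoc (IsOpenImmersion.lift _ _ hr), hs, Category.comp_id, e]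
  haveI : IsOpenImmersion (Sigma.desc s : (∐ fun _ : ι => W) ⟶ Z) := by
    refine isOpenImmersion_sigmaDesc _ _ fun i j hij => Set.disjoint_left.2 fun z hi hj => hij ?_
    exact huniq _ (FEt21.geomPt Z z ≫ π) i j ((hpt i z hi).trans (hpt j z hj).symm)
  haveI : Surjective (Sigma.desc s : (∐ fun _ : ι => W) ⟶ Z) :=
    Surjective.sigmaDesc_of_union_range_eq_univ (Set.eq_univ_of_forall fun z => by
      obtain ⟨i, hi⟩ := hex _ (FEt21.geomPt Z z)
      refine Set.mem_iUnion.2 ⟨i, (FEt21.geomPt Z z ≫ π) default, ?_⟩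
      rw [← Scheme.Hom.comp_apply, hi, FEt21.geomPt_default])
  exact isIso_of_isOpenImmersion_of_opensRange_eq_top _ (Opens.ext (Set.range_eq_univ.2
    (Scheme.Hom.surjective _)))

omit [Finite G] hp in
theorem eq_of_comp_eq_comp {K : Type u} [Field K] [IsAlgClosed K]
    (t : Spec (CommRingCat.of K) ⟶ X) (g h : G) (e : t ≫ (ρ g).hom = t ≫ (ρ h).hom) : g = h := by
  have h2 : t ≫ (ρ (h⁻¹ * g)).hom = t := by
    rw [rho_mul, reassoc_of% e, ← rho_mul, inv_mul_cancel, rho_one, Category.comp_id]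
  exact (inv_mul_eq_one.1 (hfree _ t _ h2)).symm

theorem isIso_torsor :
    IsIso (Sigma.desc (fun g : G => pullback.lift (𝟙 X) (ρ g).hom
      ((Category.id_comp p).trans (hp.inv g).symm)) : (∐ fun _ : G => X) ⟶ pullback p p) := by
  haveI := etale_of_free hp hfree
  refine isIso_sigmaDesc_sections (pullback.fst p p) _ (fun g => pullback.lift_fst _ _ _)
    (fun K _ _ τ => ?_) fun K _ _ t g h e => eq_of_comp_eq_comp hfree t g h ?_
  · obtain ⟨g, hg⟩ := exists_comp_eq hp (τ ≫ pullback.fst p p) (τ ≫ pullback.snd p p)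
      (by rw [Category.assoc, Category.assoc, pullback.condition])
    refine ⟨g, pullback.hom_ext ?_ ?_⟩
    · simp
    · simpa using hg
  · simpa using congrArg (· ≫ pullback.snd p p) e

theorem isIso_of_section (s : Y ⟶ X) (hs : s ≫ p = 𝟙 Y) :
    IsIso (Sigma.desc (fun g : G => s ≫ (ρ g).hom) : (∐ fun _ : G => Y) ⟶ X) := by
  haveI := etale_of_free hp hfree
  refine isIso_sigmaDesc_sections p _ (fun g => by rw [Category.assoc, hp.inv, hs])
    (fun K _ _ τ => ?_) fun K _ _ t g h e => eq_of_comp_eq_comp hfree (t ≫ s) g h (by simpa using e)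
  obtain ⟨g, hg⟩ := exists_comp_eq hp (τ ≫ p ≫ s) τ (by simp [hs])
  exact ⟨g, by simpa using hg⟩

end GrothLib.SGA1Quot21
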