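import Groth.Agent.Lib.SGA1Quot21.Points
import Mathlib.CategoryTheory.EffectiveEpi.Basic

/-!
# Effective epimorphisms from sections
-/

set_option autoImplicit false
set_option backward.isDefEq.respectTransparency false

universe u

open CategoryTheory CategoryTheory.Limits AlgebraicGeometry TopologicalSpace

namespace GrothLib.SGA1Quot21

theorem appLE_congr_XY {X Y : Scheme.{u}} {f f' : X ⟶ Y} (h : f = f') (V : Y.Opens) (W : X.Opens)
    (e : W ≤ f ⁻¹ᵁ V) : f.appLE V W e = f'.appLE V W (h ▸ e) := by subst h; rfl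

variable {X Y : Scheme.{u}} (p : X ⟶ Y) (hq : Topology.IsQuotientMap p)
  (hinj : ∀ U : Y.Opens, Function.Injective (p.app U).hom)
  (heq : ∀ (U : Y.Opens) (s : Γ(X, p ⁻¹ᵁ U)),
    (SGA1.overlapFstApp p U).hom s = (SGA1.overlapSndApp p U).hom s → s ∈ Set.range (p.app U).hom)
include hq hinj heq

/-- A quotient map whose sections are the equaliser of the two pullbacks is an effective epimorphism. -/
theorem exists_desc {Z : Scheme.{u}} (h : X ⟶ Z) (hh : pullback.fst p p ≫ h = pullback.snd p p ≫ h) :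
    ∃ h' : Y ⟶ Z, p ≫ h' = h := by
  haveI : Surjective p := ⟨hq.surjective⟩
  have hs : ∀ U : Y.Opens, Function.Surjective (p ∣_ U) := fun U =>
    (MorphismProperty.of_isPullback (isPullback_morphismRestrict p U).flip ‹Surjective p›).surj
  have hi : ∀ (U : Y.Opens) (V : U.toScheme.Opens), Function.Injective ((p ∣_ U).app V).hom :=
    fun U V => by
      rw [morphismRestrict_app]
      intro a b e
      exact hinj _ ((ConcreteCategory.bijective_of_isIso
        (X.presheaf.map (eqToHom (image_morphismRestrict_preimage p U V)).op)).1 e)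
  have hpts : ∀ x x', p x = p x' → h x = h x' := fun x x' e => by
    obtain ⟨z, hz, hz'⟩ := Scheme.Pullback.exists_preimage_pullback (f := p) (g := p) x x' e
    rw [← hz, ← hz', ← Scheme.Hom.comp_apply, hh, Scheme.Hom.comp_apply]
  have key : ∀ y : Y, ∃ (U : Y.Opens) (k : U.toScheme ⟶ Z),
      y ∈ U ∧ (p ∣_ U) ≫ k = (p ⁻¹ᵁ U).ι ≫ h := by
    intro y
    obtain ⟨x, rfl⟩ := hq.surjective y
    obtain ⟨_, ⟨V, hV, rfl⟩, hxV, -⟩ := Z.isBasis_affineOpens.exists_subset_of_mem_open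
      (Set.mem_univ (h x)) isOpen_univ
    have hsat : p ⁻¹' (p '' ((h ⁻¹ᵁ V : X.Opens) : Set X)) = ((h ⁻¹ᵁ V : X.Opens) : Set X) := by
      refine Set.Subset.antisymm ?_ (Set.subset_preimage_image _ _)
      rintro x' ⟨x'', hx'', e⟩
      show h x' ∈ V
      rw [← hpts x'' x' e]
      exact hx''
    let U : Y.Opens := ⟨p '' ((h ⁻¹ᵁ V : X.Opens) : Set X), hq.isOpen_preimage.1 (by rw [hsat]; exact (h ⁻¹ᵁ V).2)⟩
    have hU : p ⁻¹ᵁ U = h ⁻¹ᵁ V := Opens.ext hsat
    let f := h.appLE V (p ⁻¹ᵁ U) hU.le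
    have hf : ∀ c, (f.hom c) ∈ Set.range (p.app U).hom := fun c => heq U _ (by
      show ((f ≫ SGA1.overlapFstApp p U).hom c) = (f ≫ SGA1.overlapSndApp p U).hom c
      rw [SGA1.overlapFstApp, SGA1.overlapSndApp, Scheme.Hom.app_eq_appLE,
        Scheme.Hom.appLE_comp_appLE, Scheme.Hom.appLE_comp_appLE, appLE_congr_XY hh])
    choose φ hφ using hf
    let φ' : Γ(Z, V) →+* Γ(Y, U) :=
      { toFun := φ
        map_one' := hinj U (by rw [hφ, map_one, map_one])
        map_mul' := fun a b => hinj U (by rw [hφ, map_mul, map_mul, hφ, hφ])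
        map_zero' := hinj U (by rw [hφ, map_zero, map_zero])
        map_add' := fun a b => hinj U (by rw [hφ, map_add, map_add, hφ, hφ]) }
    have hφ' : CommRingCat.ofHom φ' ≫ p.app U = f := by ext c; exact hφ c
    refine ⟨U, U.toSpecΓ ≫ Spec.map (CommRingCat.ofHom φ') ≫ hV.fromSpec,
      show x ∈ p ⁻¹ᵁ U by rw [hU]; exact hxV, ?_⟩
    rw [← Scheme.Opens.toSpecΓ_naturality_assoc, ← Spec.map_comp_assoc, hφ',
      Scheme.Opens.toSpecΓ_SpecMap_appLE_assoc, hV.toSpecΓ_fromSpec, Scheme.Hom.resLE_comp_ι]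
  choose U k hy hk using key
  let 𝒰 := Y.openCoverOfIsOpenCover U (eq_top_iff.2 fun y _ => Opens.mem_iSup.2 ⟨y, hy y⟩)
  have hcompat : ∀ a b : Y, pullback.fst (U a).ι (U b).ι ≫ k a = pullback.snd (U a).ι (U b).ι ≫ k b := by
    intro a b
    let W := U a ⊓ U b
    have e : ∀ c : Y, (hc : W ≤ U c) → (p ∣_ W) ≫ Y.homOfLE hc ≫ k c = (p ⁻¹ᵁ W).ι ≫ h := fun c hc => by
      have : (p ∣_ W) ≫ Y.homOfLE hc = X.homOfLE (p.preimage_mono hc) ≫ (p ∣_ U c) := by
        simp [← cancel_mono (U c).ι]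
      rw [reassoc_of% this, hk, Scheme.homOfLE_ι_assoc]
    have h0 := eq_of_surjective_of_injective (p ∣_ W) (hs W) (hi W)
      ((e a inf_le_left).trans (e b inf_le_right).symm)
    let m : pullback (U a).ι (U b).ι ⟶ W := IsOpenImmersion.lift W.ι
      (pullback.fst (U a).ι (U b).ι ≫ (U a).ι) (by
        rw [Scheme.Opens.range_ι]
        rintro _ ⟨z, rfl⟩
        refine ⟨(pullback.fst (U a).ι (U b).ι z).2, ?_⟩
        rw [pullback.condition]
        exact (pullback.snd (U a).ι (U b).ι z).2)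
    have hm : m ≫ W.ι = pullback.fst (U a).ι (U b).ι ≫ (U a).ι := IsOpenImmersion.lift_fac _ _ _
    have h1 : m ≫ Y.homOfLE inf_le_left = pullback.fst (U a).ι (U b).ι := by
      rw [← cancel_mono (U a).ι, Category.assoc, Scheme.homOfLE_ι, hm]
    have h2 : m ≫ Y.homOfLE inf_le_right = pullback.snd (U a).ι (U b).ι := by
      rw [← cancel_mono (U b).ι, Category.assoc, Scheme.homOfLE_ι, hm, pullback.condition]
    rw [← h1, ← h2, Category.assoc, Category.assoc, h0]
  refine ⟨Scheme.Cover.glueMorphisms 𝒰 k hcompat, ?_⟩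
  refine Scheme.Cover.hom_ext (X.openCoverOfIsOpenCover (fun y => p ⁻¹ᵁ U y)
    (eq_top_iff.2 fun x _ => Opens.mem_iSup.2 ⟨p x, hy _⟩)) _ _ fun y => ?_
  show (p ⁻¹ᵁ U y).ι ≫ p ≫ Scheme.Cover.glueMorphisms 𝒰 k hcompat = (p ⁻¹ᵁ U y).ι ≫ h
  rw [← morphismRestrict_ι_assoc, ← hk y]
  exact congrArg ((p ∣_ U y) ≫ ·) (Scheme.Cover.ι_glueMorphisms 𝒰 k hcompat y)

theorem effectiveEpi : EffectiveEpi p :=
  ⟨⟨{ desc := fun e h => (exists_desc p hq hinj heq e (h _ _ pullback.condition)).choose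
      fac := fun e h => (exists_desc p hq hinj heq e (h _ _ pullback.condition)).choose_spec
      uniq := fun e h m hm => eq_of_surjective_of_injective p hq.surjective hinj
        (hm.trans (exists_desc p hq hinj heq e (h _ _ pullback.condition)).choose_spec.symm) }⟩⟩

end GrothLib.SGA1Quot21
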