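import Groth.Agent.Lib.SGA1Quot21.Descend
import Groth.Agent.Lib.GrpdQuot.FiniteAffine

/-!
# Existence of quotients by finite groups
-/

set_option autoImplicit false
set_option backward.isDefEq.respectTransparency false

universe u

open CategoryTheory CategoryTheory.Limits AlgebraicGeometry TopologicalSpace

namespace GrothLib.SGA1Quot21

variable {X : Scheme.{u}} {G : Type u} [Group G] (ρ : G →* Aut X)

/-- The action on an invariant open subscheme. -/
noncomputable def restrictAction (V : X.Opens) (hV : ∀ g : G, (ρ g).hom ⁻¹ᵁ V = V) :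
    G →* Aut V.toScheme where
  toFun g :=
    { hom := (ρ g).hom.resLE V V (hV g).ge
      inv := (ρ g⁻¹).hom.resLE V V (hV g⁻¹).ge
      hom_inv_id := by
        rw [← cancel_mono V.ι, Category.assoc, Scheme.Hom.resLE_comp_ι, Scheme.Hom.resLE_comp_ι_assoc,
          ← rho_mul, inv_mul_cancel, rho_one, Category.comp_id, Category.id_comp]
      inv_hom_id := by
        rw [← cancel_mono V.ι, Category.assoc, Scheme.Hom.resLE_comp_ι, Scheme.Hom.resLE_comp_ι_assoc,
          ← rho_mul, mul_inv_cancel, rho_one, Category.comp_id, Category.id_comp] }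
  map_one' := by
    refine Iso.ext ((cancel_mono V.ι).1 ?_)
    show (ρ 1).hom.resLE V V _ ≫ V.ι = 𝟙 _ ≫ V.ι
    rw [Scheme.Hom.resLE_comp_ι, rho_one, Category.comp_id, Category.id_comp]
  map_mul' g h := by
    refine Iso.ext ((cancel_mono V.ι).1 ?_)
    show (ρ (g * h)).hom.resLE V V _ ≫ V.ι = ((ρ h).hom.resLE V V _ ≫ (ρ g).hom.resLE V V _) ≫ V.ι
    rw [Scheme.Hom.resLE_comp_ι, Category.assoc, Scheme.Hom.resLE_comp_ι,
      Scheme.Hom.resLE_comp_ι_assoc, rho_mul]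

theorem restrictAction_ι (V : X.Opens) (hV : ∀ g : G, (ρ g).hom ⁻¹ᵁ V = V) (g : G) :
    (restrictAction ρ V hV g).hom ≫ V.ι = V.ι ≫ (ρ g).hom :=
  Scheme.Hom.resLE_comp_ι _ _

/-- An open subscheme of an affine open which is a finite intersection of affines is affine. -/
theorem isAffineOpen_inf_of_le {U W₁ W₂ : X.Opens} (hU : IsAffineOpen U) (h₁ : IsAffineOpen W₁)
    (h₂ : IsAffineOpen W₂) (le₁ : W₁ ≤ U) (le₂ : W₂ ≤ U) : IsAffineOpen (W₁ ⊓ W₂) := by
  haveI : IsAffine U.toScheme := hU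
  have e : ∀ {W : X.Opens}, W ≤ U → U.ι ''ᵁ (U.ι ⁻¹ᵁ W) = W := fun {W} h => by
    rw [Scheme.Hom.image_preimage_eq_opensRange_inf, Scheme.Opens.opensRange_ι, inf_eq_right.2 h]
  have k₁ : IsAffineOpen (U.ι ⁻¹ᵁ W₁) := h₁.preimage_of_isOpenImmersion U.ι (by rwa [Scheme.Opens.opensRange_ι])
  have k₂ : IsAffineOpen (U.ι ⁻¹ᵁ W₂) := h₂.preimage_of_isOpenImmersion U.ι (by rwa [Scheme.Opens.opensRange_ι])
  rw [← e (inf_le_left.trans le₁ : W₁ ⊓ W₂ ≤ U)]
  exact IsAffineOpen.image_of_isOpenImmersion (IsAffineOpen.inf k₁ k₂) U.ι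

/-- Invariant affine opens. -/
abbrev InvAffine : Type u := {W : X.Opens // IsAffineOpen W ∧ ∀ g : G, (ρ g).hom ⁻¹ᵁ W = W}

variable [Finite G]

theorem exists_invAffine (h : ∀ x : X, ∃ U : X.Opens, IsAffineOpen U ∧ ∀ g : G, (ρ g).hom x ∈ U)
    (O : X.Opens) (hO : ∀ g : G, (ρ g).hom ⁻¹ᵁ O = O) (x : X) (hx : x ∈ O) :
    ∃ W : InvAffine ρ, x ∈ W.1 ∧ W.1 ≤ O := by
  classical
  haveI := Fintype.ofFinite G
  obtain ⟨U, hU, hxU⟩ := h x
  let W₀ : X.Opens := Finset.univ.inf fun g : G => (ρ g).hom ⁻¹ᵁ (U ⊓ O)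
  have hW₀ : W₀ ≤ U ⊓ O := by
    refine (Finset.inf_le (Finset.mem_univ (1 : G))).trans ?_
    rw [rho_one]; exact le_rfl
  have horb : ∀ g : G, (ρ g).hom x ∈ W₀ := fun g => by
    simp only [W₀]
    have : ∀ k : G, (ρ k).hom ((ρ g).hom x) ∈ U ⊓ O := fun k => by
      rw [← Scheme.Hom.comp_apply, ← rho_mul]
      exact ⟨hxU _, by rw [← hO (k * g)] at hx; exact hx⟩
    induction (Finset.univ : Finset G) using Finset.induction with
    | empty => simp
    | insert k s _ ih => rw [Finset.inf_insert]; exact ⟨this k, ih⟩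
  haveI : IsAffine U.toScheme := hU
  obtain ⟨V, hV, hEV⟩ := GrothLib.GrpdQuot.exists_affineOpen_of_finite
    (X.homOfLE (hW₀.trans inf_le_left)) (W₀.ι ⁻¹' Set.range fun g : G => (ρ g).hom x)
    ((Set.finite_range _).preimage W₀.ι.isOpenEmbedding.injective.injOn)
  let D : X.Opens := W₀.ι ''ᵁ V
  have hD : IsAffineOpen D := hV.image_of_isOpenImmersion W₀.ι
  have hDW : D ≤ W₀ := fun z hz => by
    obtain ⟨w, -, rfl⟩ := hz
    exact w.2
  have hxD : ∀ g : G, (ρ g).hom x ∈ D := fun g => ⟨⟨_, horb g⟩, hEV ⟨g, rfl⟩, rfl⟩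
  let T : X.Opens := Finset.univ.inf fun g : G => (ρ g).hom ⁻¹ᵁ D
  have hgU : ∀ g : G, (ρ g).hom ⁻¹ᵁ D ≤ U := fun g => by
    refine ((ρ g).hom.preimage_mono (hDW.trans (Finset.inf_le (Finset.mem_univ g⁻¹)))).trans ?_
    rw [← Scheme.Hom.comp_preimage, ← rho_mul, inv_mul_cancel, rho_one]
    exact inf_le_left
  have hgA : ∀ g : G, IsAffineOpen ((ρ g).hom ⁻¹ᵁ D) := fun g =>
    haveI : IsIso (ρ g).hom := Iso.isIso_hom (ρ g : X ≅ X)
    hD.preimage (ρ g).hom
  have hT1 : T ≤ D := by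
    refine (Finset.inf_le (Finset.mem_univ (1 : G))).trans ?_
    rw [rho_one]; exact le_rfl
  have hT : IsAffineOpen T ∧ x ∈ T := by
    have key : ∀ s : Finset G, s.Nonempty → IsAffineOpen (s.inf fun g : G => (ρ g).hom ⁻¹ᵁ D) ∧
        (s.inf fun g : G => (ρ g).hom ⁻¹ᵁ D) ≤ U ∧ x ∈ (s.inf fun g : G => (ρ g).hom ⁻¹ᵁ D) := by
      intro s hs
      induction hs using Finset.Nonempty.cons_induction with
      | singleton a => rw [Finset.inf_singleton]; exact ⟨hgA a, hgU a, hxD a⟩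
      | cons a s _ _ ih =>
        rw [Finset.inf_cons]
        exact ⟨isAffineOpen_inf_of_le hU (hgA a) ih.1 (hgU a) ih.2.1, inf_le_left.trans (hgU a),
          ⟨hxD a, ih.2.2⟩⟩
    exact ⟨(key _ Finset.univ_nonempty).1, (key _ Finset.univ_nonempty).2.2⟩
  refine ⟨⟨T, hT.1, fun k => ?_⟩, hT.2, hT1.trans (hDW.trans (hW₀.trans inf_le_right))⟩
  have : ∀ s : Finset G, (ρ k).hom ⁻¹ᵁ (s.inf fun g : G => (ρ g).hom ⁻¹ᵁ D) =
      (s.image fun g => g * k).inf fun g : G => (ρ g).hom ⁻¹ᵁ D := by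
    intro s
    rw [Finset.inf_image]
    induction s using Finset.induction with
    | empty => simp
    | insert a s _ ih =>
      rw [Finset.inf_insert, Finset.inf_insert, ← ih, Scheme.Hom.preimage_inf]
      congr 1
      simp only [Function.comp_apply]
      rw [rho_mul, Scheme.Hom.comp_preimage]
  rw [this, Finset.image_univ_of_surjective (Group.mulRight_bijective k).2]

omit [Finite G] in
/-- The action on the global sections of an affine scheme. -/
theorem exists_algebraic_action [IsAffine X] :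
    ∃ (A B : Type u) (_ : CommRing A) (_ : CommRing B) (_ : Algebra B A)
      (_ : MulSemiringAction G A) (_ : SMulCommClass G B A) (_ : Algebra.IsInvariant B A G)
      (_ : FaithfulSMul B A) (e : X ≅ Spec (CommRingCat.of A)),
      ∀ g : G, (specAction G A g).hom = e.inv ≫ (ρ g).hom ≫ e.hom := by
  letI act : MulSemiringAction G Γ(X, ⊤) :=
    { smul := fun g a => (ρ g⁻¹).hom.appTop.hom a
      one_smul := fun a => by
        show (ρ 1⁻¹).hom.appTop.hom a = a
        rw [inv_one, rho_one]; rfl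
      mul_smul := fun g h a => by
        show (ρ (g * h)⁻¹).hom.appTop.hom a = (ρ g⁻¹).hom.appTop.hom ((ρ h⁻¹).hom.appTop.hom a)
        rw [mul_inv_rev, rho_mul]; rfl
      smul_zero := fun g => map_zero (ρ g⁻¹).hom.appTop.hom
      smul_add := fun g => map_add (ρ g⁻¹).hom.appTop.hom
      smul_one := fun g => map_one (ρ g⁻¹).hom.appTop.hom
      smul_mul := fun g => map_mul (ρ g⁻¹).hom.appTop.hom }
  let B := FixedPoints.subring Γ(X, ⊤) G
  haveI : SMulCommClass G B Γ(X, ⊤) := ⟨fun g b a => by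
    show g • ((b : Γ(X, ⊤)) * a) = (b : Γ(X, ⊤)) * g • a
    rw [smul_mul', b.2 g]⟩
  refine ⟨Γ(X, ⊤), B, inferInstance, inferInstance, inferInstance, act, ‹_›,
    ⟨fun a ha => ⟨⟨a, ha⟩, rfl⟩⟩, (faithfulSMul_iff_algebraMap_injective _ _).2 Subtype.coe_injective,
    X.isoSpec, fun g => ?_⟩
  rw [Iso.eq_inv_comp]
  show X.isoSpec.hom ≫ Spec.map (CommRingCat.ofHom (MulSemiringAction.toRingHom G Γ(X, ⊤) g⁻¹)) = _
  have : CommRingCat.ofHom (MulSemiringAction.toRingHom G Γ(X, ⊤) g⁻¹) = (ρ g).hom.appTop := by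
    ext a
    show (ρ g⁻¹⁻¹).hom.appTop.hom a = _
    rw [inv_inv]
  rw [this]
  exact Scheme.isoSpec_hom_naturality (ρ g).hom

theorem exists_quot_of_isAffine [IsAffine X] : ∃ (Y : Scheme.{u}) (p : X ⟶ Y), SGA1.IsQuot ρ p := by
  obtain ⟨A, B, _, _, _, _, _, _, _, e, he⟩ := exists_algebraic_action ρ
  let π := Spec.map (CommRingCat.ofHom (algebraMap B A))
  have hS : SGA1.IsQuot (specAction G A) π := isQuot_Spec _ (specAction_range G A)
  have hsq : IsPullback e.hom (e.hom ≫ π) π (𝟙 _) := IsPullback.of_horiz_isIso ⟨by simp⟩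
  refine ⟨_, e.hom ≫ π, isQuot_baseChange hS hsq (fun g => ?_) fun g => ?_⟩
  · have := hS.inv g
    rw [he, Category.assoc, Iso.inv_comp_eq, Category.assoc] at this
    exact this
  · rw [he, Iso.hom_inv_id_assoc]

end GrothLib.SGA1Quot21
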