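import Groth.Agent.Lib.SGA1Quot21.Galois

/-!
# Actions whose fixed loci are open and closed

If for every `g` the ideal of the fixed locus of `g` is a direct summand, on which `g` acts trivially,
the algebra is étale over the ring of invariants.
-/

set_option autoImplicit false

universe u

open TensorProduct

namespace GrothLib.SGA1Quot21

variable {G A B : Type u} [Group G] [CommRing A] [CommRing B] [Algebra B A]
  [MulSemiringAction G A] [SMulCommClass G B A]

/-- `e` cuts out the fixed locus of `g`. -/
structure IsFixIdem (g : G) (e : A) : Prop where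
  mul_eq : ∀ a, e * (g • a) = e * a
  mem : 1 - e ∈ Ideal.span (Set.range fun a : A => g • a - a)

theorem IsFixIdem.eq_mul {g : G} {e c : A} (he : IsFixIdem g e) (hc : ∀ a, c * (g • a) = c * a) :
    c = c * e := by
  have : ∀ z ∈ Ideal.span (Set.range fun a : A => g • a - a), c * z = 0 := by
    intro z hz
    induction hz using Submodule.span_induction with
    | mem z hz => obtain ⟨a, rfl⟩ := hz; rw [mul_sub, hc, sub_self]
    | zero => rw [mul_zero]
    | add z w _ _ hz hw => rw [mul_add, hz, hw, add_zero]
    | smul b z _ hz => rw [smul_eq_mul, mul_left_comm, hz, mul_zero]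
  have h := this _ he.mem
  rwa [mul_sub, mul_one, sub_eq_zero] at h

variable (hfix : ∀ g : G, ∃ e : A, IsFixIdem g e)
include hfix

/-- The idempotent of the fixed locus. -/
noncomputable def fixIdem (g : G) : A := (hfix g).choose

theorem fixIdem_spec (g : G) : IsFixIdem g (fixIdem hfix g) := (hfix g).choose_spec

theorem fixIdem_mul (g : G) (a : A) : fixIdem hfix g * (g • a) = fixIdem hfix g * a :=
  (fixIdem_spec hfix g).mul_eq a

theorem fixIdem_one : fixIdem hfix 1 = 1 := by
  have h := (fixIdem_spec hfix (1 : G)).eq_mul (c := 1) (fun a => by rw [one_smul])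
  rw [one_mul] at h
  exact h.symm

theorem fixIdem_inv (g : G) : fixIdem hfix g⁻¹ = fixIdem hfix g := by
  have key : ∀ h : G, fixIdem hfix h = fixIdem hfix h * fixIdem hfix h⁻¹ := fun h =>
    (fixIdem_spec hfix h⁻¹).eq_mul fun a => by
      have := fixIdem_mul hfix h (h⁻¹ • a)
      rw [smul_inv_smul] at this
      exact this.symm
  have h1 := key g
  have h2 := key g⁻¹
  rw [inv_inv] at h2
  rw [h2, mul_comm]
  exact h1.symm

theorem fixIdem_mul_fixIdem (g h : G) :
    fixIdem hfix g * fixIdem hfix h =
      fixIdem hfix g * fixIdem hfix h * fixIdem hfix (g * h) :=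
  (fixIdem_spec hfix (g * h)).eq_mul fun a => by
    rw [mul_smul]
    linear_combination fixIdem hfix h * fixIdem_mul hfix g (h • a)
      + fixIdem hfix g * fixIdem_mul hfix h a

theorem smul_fixIdem (k g : G) : k • fixIdem hfix g = fixIdem hfix (k * g * k⁻¹) := by
  have key : ∀ k g : G, k • fixIdem hfix g = k • fixIdem hfix g * fixIdem hfix (k * g * k⁻¹) :=
    fun k g => (fixIdem_spec hfix (k * g * k⁻¹)).eq_mul fun a => by
      have := congrArg (k • ·) (fixIdem_mul hfix g (k⁻¹ • a))
      simp only [smul_mul', smul_inv_smul] at this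
      rwa [mul_smul, mul_smul]
  have h1 := key k g
  have h2 := key k⁻¹ (k * g * k⁻¹)
  rw [show k⁻¹ * (k * g * k⁻¹) * k⁻¹⁻¹ = g by group] at h2
  have h3 := congrArg (k • ·) h2
  simp only [smul_mul', smul_inv_smul] at h3
  refine h1.trans ?_
  rw [mul_comm]
  exact h3.symm

variable [Finite G]

theorem exists_separating_fix :
    ∃ e : A ⊗[B] A, mulTwist G A B 1 e = 1 ∧ ∀ g : G, mulTwist G A B g e = fixIdem hfix g := by
  classical
  have := Fintype.ofFinite G
  have key : ∀ g : G, ∃ z : A ⊗[B] A, mulTwist G A B 1 z = 1 ∧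
      mulTwist G A B g z = fixIdem hfix g := by
    intro g
    have : ∀ z ∈ Ideal.span (Set.range fun a : A => g • a - a),
        ∃ e : A ⊗[B] A, mulTwist G A B 1 e = -z ∧ mulTwist G A B g e = 0 := by
      intro z hz
      induction hz using Submodule.span_induction with
      | mem z hz =>
        obtain ⟨a, rfl⟩ := hz
        exact ⟨(1 : A) ⊗ₜ a - (g • a) ⊗ₜ (1 : A), by simp, by simp⟩
      | zero => exact ⟨0, by simp, by simp⟩
      | add z w _ _ hz hw =>
        obtain ⟨e, he1, he2⟩ := hz; obtain ⟨f, hf1, hf2⟩ := hw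
        exact ⟨e + f, by rw [map_add, he1, hf1, neg_add], by rw [map_add, he2, hf2, add_zero]⟩
      | smul c z _ hz =>
        obtain ⟨e, he1, he2⟩ := hz
        exact ⟨(c ⊗ₜ (1 : A)) * e, by rw [map_mul, he1]; simp, by rw [map_mul, he2, mul_zero]⟩
    obtain ⟨t, ht1, ht2⟩ := this _ (fixIdem_spec hfix g).mem
    exact ⟨fixIdem hfix g ⊗ₜ (1 : A) - t, by rw [map_sub, ht1]; simp, by rw [map_sub, ht2]; simp⟩
  choose z hz1 hz2 using key
  have hfac : ∀ (g : G) (w : A ⊗[B] A),
      fixIdem hfix g * mulTwist G A B g w = fixIdem hfix g * mulTwist G A B 1 w := fun g w => by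
    induction w with
    | zero => simp
    | tmul a c => simp only [mulTwist_tmul, one_smul]; linear_combination a * fixIdem_mul hfix g c
    | add w w' h h' => rw [map_add, map_add, mul_add, mul_add, h, h']
  have h1 : mulTwist G A B 1 (∏ g : G, z g) = 1 := by
    rw [map_prod, Finset.prod_eq_one fun g _ => hz1 g]
  refine ⟨∏ g : G, z g, h1, fun g => ?_⟩
  have h2 := hfac g (∏ g : G, z g)
  rw [h1, mul_one] at h2
  rw [map_prod, ← Finset.mul_prod_erase _ _ (Finset.mem_univ g), hz2] at h2 ⊢
  have hidem : fixIdem hfix g * fixIdem hfix g = fixIdem hfix g :=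
    ((fixIdem_spec hfix g).eq_mul (fixIdem_mul hfix g)).symm
  rw [← mul_assoc, hidem] at h2
  exact h2

/-- Weights picking one element in each coset of the inertia group. -/
theorem exists_weights : ∃ w : G → A, letI := Fintype.ofFinite G;
    ∀ g : G, ∑ h : G, w h * fixIdem hfix (h * g⁻¹) = 1 := by
  classical
  letI := Fintype.ofFinite G
  letI : LinearOrder G :=
    LinearOrder.lift' (Fintype.equivFin G) (Fintype.equivFin G).injective
  refine ⟨fun h => ∏ h' ∈ Finset.univ.filter (· < h), (1 - fixIdem hfix (h * h'⁻¹)), fun g => ?_⟩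
  let u : G → A := fun h => fixIdem hfix (h * g⁻¹)
  have hu : ∀ h h' : G, u h * fixIdem hfix (h * h'⁻¹) = u h * u h' := fun h h' => by
    have e1 := fixIdem_mul_fixIdem hfix (h * g⁻¹)⁻¹ (h * h'⁻¹)
    have e2 := fixIdem_mul_fixIdem hfix (h * g⁻¹) (h' * g⁻¹)⁻¹
    rw [show (h * g⁻¹)⁻¹ * (h * h'⁻¹) = (h' * g⁻¹)⁻¹ by group] at e1
    rw [show (h * g⁻¹) * (h' * g⁻¹)⁻¹ = h * h'⁻¹ by group] at e2
    simp only [fixIdem_inv] at e1 e2
    show fixIdem hfix (h * g⁻¹) * fixIdem hfix (h * h'⁻¹) =
      fixIdem hfix (h * g⁻¹) * fixIdem hfix (h' * g⁻¹)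
    linear_combination e1 - e2
  have hprod : ∀ h : G, ∀ s : Finset G, u h * ∏ h' ∈ s, (1 - fixIdem hfix (h * h'⁻¹)) =
      u h * ∏ h' ∈ s, (1 - u h') := fun h s => by
    induction s using Finset.induction_on with
    | empty => simp
    | insert a s ha ih =>
      rw [Finset.prod_insert ha, Finset.prod_insert ha]
      linear_combination (1 - fixIdem hfix (h * a⁻¹)) * ih - (∏ h' ∈ s, (1 - u h')) * hu h a
  calc ∑ h, (∏ h' ∈ Finset.univ.filter (· < h), (1 - fixIdem hfix (h * h'⁻¹))) * fixIdem hfix (h * g⁻¹)
      = ∑ h, u h * ∏ h' ∈ Finset.univ.filter (· < h), (1 - u h') :=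
        Finset.sum_congr rfl fun h _ => (mul_comm _ _).trans (hprod h _)
    _ = 1 := by
        have h0 := Finset.prod_one_sub_ordered (Finset.univ : Finset G) u
        have hz : ∏ h : G, (1 - u h) = 0 :=
          Finset.prod_eq_zero (Finset.mem_univ g) (by simp [u, fixIdem_one])
        rw [hz] at h0
        linear_combination h0

variable [Algebra.IsInvariant B A G] [FaithfulSMul B A]

theorem exists_dual_fix : ∃ (n : ℕ) (x y : Fin n → A) (T : A →ₗ[B] B) (w : G → A),
    (∀ c, algebraMap B A (T c) = letI := Fintype.ofFinite G; ∑ g : G, w g * g • c) ∧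
    (∀ c, ∑ i, x i * algebraMap B A (T (c * y i)) = c) := by
  classical
  letI := Fintype.ofFinite G
  obtain ⟨e, he1, he2⟩ := exists_separating_fix (B := B) hfix
  obtain ⟨w, hw⟩ := exists_weights hfix
  obtain ⟨n, x, y, rfl⟩ : ∃ (n : ℕ) (x y : Fin n → A), e = ∑ i, x i ⊗ₜ[B] y i :=
    TensorProduct.exists_sum_tmul_eq e
  have hinj : Function.Injective (algebraMap B A) := FaithfulSMul.algebraMap_injective B A
  -- the trace does not depend on the weights
  have hindep : ∀ (w w' : G → A), (∀ g : G, ∑ h : G, w h * fixIdem hfix (h * g⁻¹) = 1) →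
      (∀ g : G, ∑ h : G, w' h * fixIdem hfix (h * g⁻¹) = 1) →
      ∀ c : A, ∑ g, w g * g • c = ∑ g, w' g * g • c := fun w w' h h' c => by
    calc ∑ k, w k * k • c = ∑ k, (∑ g, w' g * fixIdem hfix (g * k⁻¹)) * (w k * k • c) :=
          Finset.sum_congr rfl fun k _ => by rw [h', one_mul]
      _ = ∑ k, ∑ g, w' g * (g • c) * (w k * fixIdem hfix (k * g⁻¹)) := by
          refine Finset.sum_congr rfl fun k _ => ?_
          rw [Finset.sum_mul]
          refine Finset.sum_congr rfl fun g _ => ?_
          have e1 := fixIdem_mul hfix (g * k⁻¹) (k • c)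
          rw [smul_smul, inv_mul_cancel_right] at e1
          rw [show k * g⁻¹ = (g * k⁻¹)⁻¹ by group, fixIdem_inv]
          linear_combination - w' g * w k * e1
      _ = ∑ g, w' g * g • c := by
          rw [Finset.sum_comm]
          exact Finset.sum_congr rfl fun g _ => by rw [← Finset.mul_sum, h, mul_one]
  have hinv : ∀ c : A, ∃ b : B, algebraMap B A b = ∑ g : G, w g * g • c := fun c =>
    Algebra.IsInvariant.isInvariant (G := G) _ fun k => by
      have hw' : ∀ g : G, ∑ h : G, k • w (k⁻¹ * h) * fixIdem hfix (h * g⁻¹) = 1 := fun g => by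
        refine Eq.trans ?_ ((congrArg (k • ·) (hw (k⁻¹ * g))).trans (smul_one k))
        rw [Finset.smul_sum]
        refine Fintype.sum_equiv (Equiv.mulLeft k⁻¹) _ _ fun h => ?_
        rw [Equiv.coe_mulLeft, smul_mul', smul_fixIdem]
        congr 2
        group
      refine Eq.trans ?_ (hindep w (fun h => k • w (k⁻¹ * h)) hw hw' c).symm
      rw [Finset.smul_sum]
      exact Fintype.sum_equiv (Equiv.mulLeft k) _ _ fun g => by
        simp [smul_mul', smul_smul]
  choose T hT using hinv
  let Tl : A →ₗ[B] B :=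
    { toFun := T
      map_add' := fun c d => hinj (by simp [hT, smul_add, mul_add, Finset.sum_add_distrib])
      map_smul' := fun b c => hinj (by
        simp [hT, Algebra.smul_def, Finset.mul_sum, smul_mul', mul_left_comm]) }
  refine ⟨n, x, y, Tl, w, hT, fun c => ?_⟩
  have hg : ∀ g : G, ∑ i, x i * g • y i = fixIdem hfix g := fun g => by simpa using he2 g
  calc ∑ i, x i * algebraMap B A (T (c * y i))
      = ∑ i, ∑ g : G, w g * g • c * (x i * g • y i) := by
        refine Finset.sum_congr rfl fun i _ => ?_
        rw [hT, Finset.mul_sum]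
        exact Finset.sum_congr rfl fun g _ => by rw [smul_mul']; ring
    _ = ∑ g : G, c * (w g * fixIdem hfix (g * 1⁻¹)) := by
        rw [Finset.sum_comm]
        refine Finset.sum_congr rfl fun g _ => ?_
        rw [← Finset.mul_sum, hg, inv_one, mul_one]
        linear_combination w g * fixIdem_mul hfix g c
    _ = c := by rw [← Finset.mul_sum, hw, mul_one]

/-- If the fixed loci are open and closed, the algebra is étale over the invariants. -/
theorem etale_of_fixIdem : Algebra.Etale B A := by
  classical
  letI := Fintype.ofFinite G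
  obtain ⟨n, x, y, T, w, hT, hc⟩ := exists_dual_fix (B := B) hfix
  let q : (Fin n → B) →ₗ[B] A := Fintype.linearCombination B x
  let s : A →ₗ[B] (Fin n → B) := LinearMap.pi fun i => T ∘ₗ LinearMap.mulRight B (y i)
  have hqs : q ∘ₗ s = LinearMap.id := by
    ext c
    simp only [q, s, LinearMap.comp_apply, Fintype.linearCombination_apply, LinearMap.pi_apply,
      LinearMap.id_apply, LinearMap.mulRight_apply, Algebra.smul_def]
    exact (Finset.sum_congr rfl fun i _ => mul_comm _ _).trans (hc c)
  haveI : Module.Finite B A := Module.Finite.of_surjective q fun c => ⟨s c, LinearMap.congr_fun hqs c⟩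
  haveI : Module.Projective B A := Module.Projective.of_split s q hqs
  haveI : Module.FinitePresentation B A := Module.finitePresentation_of_projective B A
  haveI : Algebra.FinitePresentation B A := inferInstance
  have key : ∀ z : A ⊗[B] A,
      z = ∑ i, ∑ g : G, (w g * mulTwist G A B g z * g • y i) ⊗ₜ[B] x i := by
    intro z
    induction z with
    | zero => simp
    | tmul a c =>
      conv_lhs => rw [← hc c]
      rw [tmul_sum]
      refine Finset.sum_congr rfl fun i _ => ?_
      rw [← sum_tmul, mul_comm (x i), ← Algebra.smul_def, ← smul_tmul, Algebra.smul_def, hT,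
        Finset.sum_mul]
      congr 1
      refine Finset.sum_congr rfl fun g _ => ?_
      rw [mulTwist_tmul, smul_mul']
      ring
    | add z z' hz hz' =>
      conv_lhs => rw [hz, hz']
      rw [← Finset.sum_add_distrib]
      refine Finset.sum_congr rfl fun i _ => ?_
      rw [← Finset.sum_add_distrib]
      exact Finset.sum_congr rfl fun g _ => by rw [map_add, mul_add, add_mul, add_tmul]
  obtain ⟨e, he1, he2⟩ := exists_separating_fix (B := B) hfix
  haveI : Algebra.FormallyUnramified B A := by
    rw [Algebra.FormallyUnramified.iff_exists_tensorProduct]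
    have hs : ∀ z, Algebra.TensorProduct.lmul' (S := A) B z = mulTwist G A B 1 z := fun z => by
      induction z with
      | zero => simp
      | tmul a c => simp
      | add z w hz hw => rw [map_add, map_add, hz, hw]
    refine ⟨e, fun s => ?_, by rw [hs, he1]⟩
    have h0 : ∀ g : G, mulTwist G A B g ((1 ⊗ₜ s - s ⊗ₜ 1) * e) = 0 := fun g => by
      rw [map_mul, map_sub, he2]
      simp only [mulTwist_tmul, one_mul, smul_one, mul_one]
      linear_combination fixIdem_mul hfix g s
    rw [key ((1 ⊗ₜ s - s ⊗ₜ 1) * e)]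
    simp [h0]
  exact Algebra.Etale.of_formallyUnramified_of_flat

end GrothLib.SGA1Quot21
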