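import Groth.Agent.Lib.SGA1Quot21.Points
import Mathlib.FieldTheory.Normal.Basic

/-!
# Residue fields of quotients by finite groups
-/

set_option autoImplicit false
set_option backward.isDefEq.respectTransparency false

universe u

open CategoryTheory AlgebraicGeometry Polynomial

namespace GrothLib.SGA1Quot21

variable {X Y : Scheme.{u}} {G : Type u} [Group G] [Finite G] {ρ : G →* Aut X} {p : X ⟶ Y}
  (hp : SGA1.IsQuot ρ p)
include hp

theorem normal_residueField (x : X) :
    letI := (p.residueFieldMap x).hom.toAlgebra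
    Normal (Y.residueField (p x)) (X.residueField x) := by
  classical
  letI := (p.residueFieldMap x).hom.toAlgebra
  obtain ⟨_, ⟨U, hU, rfl⟩, hxU, -⟩ := Y.isBasis_affineOpens.exists_subset_of_mem_open
    (Set.mem_univ (p x)) isOpen_univ
  haveI := hp.affine
  have hpU : IsAffineOpen (p ⁻¹ᵁ U) := hU.preimage p
  letI := (p.app U).hom.toAlgebra
  letI := sectionsAction ρ p hp.inv U
  haveI := sections_isInvariant hp U
  haveI := sections_smulComm ρ p hp.inv U
  haveI := Fintype.ofFinite G
  let ev : Γ(X, p ⁻¹ᵁ U) →+* X.residueField x := (X.evaluation (p ⁻¹ᵁ U) x hxU).hom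
  let evY : Γ(Y, U) →+* Y.residueField (p x) := (Y.evaluation U (p x) hxU).hom
  have hcomm : (algebraMap (Y.residueField (p x)) (X.residueField x)).comp evY =
      ev.comp (algebraMap Γ(Y, U) Γ(X, p ⁻¹ᵁ U)) :=
    congrArg CommRingCat.Hom.hom (Scheme.evaluation_naturality p x hxU)
  haveI : Nontrivial Γ(X, p ⁻¹ᵁ U) := ev.domain_nontrivial
  have hroot : ∀ α ∈ Set.range ev, IsIntegral (Y.residueField (p x)) α ∧
      ((minpoly (Y.residueField (p x)) α).map (algebraMap _ (X.residueField x))).Splits := by
    rintro _ ⟨a, rfl⟩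
    obtain ⟨P, hP, -, hPm⟩ := lifts_and_degree_eq_and_monic
      (Algebra.IsInvariant.charpoly_mem_lifts Γ(Y, U) Γ(X, p ⁻¹ᵁ U) G a)
      (MulSemiringAction.monic_charpoly G a)
    have hmap : (P.map evY).map (algebraMap (Y.residueField (p x)) (X.residueField x)) =
        ∏ g : G, (Polynomial.X - C (ev (g • a))) := by
      rw [Polynomial.map_map, hcomm, ← Polynomial.map_map, hP,
        MulSemiringAction.charpoly_eq, Polynomial.map_prod]
      simp
    have hev : aeval (ev a) (P.map evY) = 0 := by
      rw [aeval_def, ← eval_map, hmap, eval_prod]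
      exact Finset.prod_eq_zero (Finset.mem_univ (1 : G)) (by simp)
    refine ⟨⟨P.map evY, hPm.map _, hev⟩, ?_⟩
    refine Splits.of_dvd (g := (P.map evY).map (algebraMap _ (X.residueField x))) ?_ ?_ ?_
    · rw [hmap]; exact Splits.prod fun g _ => Splits.X_sub_C _
    · rw [hmap]; exact (monic_prod_X_sub_C _ _).ne_zero
    · exact Polynomial.map_dvd _ (minpoly.dvd _ _ hev)
  have htop : IntermediateField.adjoin (Y.residueField (p x)) (Set.range ev) = ⊤ := by
    refine eq_top_iff.2 fun z _ => ?_
    obtain ⟨w, rfl⟩ := X.residue_surjective x z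
    letI : Algebra Γ(X, p ⁻¹ᵁ U) (X.presheaf.stalk x) :=
      TopCat.Presheaf.algebra_section_stalk X.presheaf (⟨x, hxU⟩ : ↥(p ⁻¹ᵁ U))
    haveI : IsLocalization.AtPrime (X.presheaf.stalk x) (hpU.primeIdealOf ⟨x, hxU⟩).asIdeal :=
      hpU.isLocalization_stalk ⟨x, hxU⟩
    obtain ⟨⟨a, s⟩, hw⟩ := IsLocalization.surj
      (hpU.primeIdealOf ⟨x, hxU⟩).asIdeal.primeCompl w
    have e : (X.residue x).hom w * ev s.1 = ev a := by
      have := congrArg (X.residue x).hom hw
      rw [map_mul] at this
      exact this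
    have hs : ev s.1 ≠ 0 := by
      have hu : IsUnit (algebraMap Γ(X, p ⁻¹ᵁ U) (X.presheaf.stalk x) s.1) :=
        IsLocalization.map_units (X.presheaf.stalk x) s
      exact (hu.map (X.residue x).hom).ne_zero
    have : (X.residue x).hom w = ev a / ev s.1 := by rw [eq_div_iff hs, e]
    rw [this]
    exact div_mem (IntermediateField.subset_adjoin _ _ ⟨a, rfl⟩)
      (IntermediateField.subset_adjoin _ _ ⟨s.1, rfl⟩)
  refine normal_iff.2 fun z => ?_
  have hz : z ∈ IntermediateField.adjoin (Y.residueField (p x)) (Set.range ev) := by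
    rw [htop]; trivial
  refine ⟨?_, IntermediateField.splits_of_mem_adjoin (L := X.residueField x) _ _ hroot hz⟩
  haveI := IntermediateField.isAlgebraic_adjoin fun α hα => (hroot α hα).1
  exact (IntermediateField.isAlgebraic_iff.1
    (Algebra.IsAlgebraic.isAlgebraic (R := Y.residueField (p x))
      (⟨z, hz⟩ : IntermediateField.adjoin (Y.residueField (p x)) (Set.range ev)))).isIntegral

theorem stabilizer_surjective (x : X) (τ : X.residueField x ≅ X.residueField x)
    (hτ : p.residueFieldMap x ≫ τ.hom = p.residueFieldMap x) :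
    ∃ (g : G) (e : (ρ g).hom x = x),
      τ.hom = (X.residueFieldCongr e).inv ≫ (ρ g).hom.residueFieldMap x := by
  obtain ⟨g, hg⟩ := exists_comp_eq (K := X.residueField x) hp (X.fromSpecResidueField x)
    (Spec.map τ.hom ≫ X.fromSpecResidueField x) (by
      rw [Category.assoc, ← Scheme.Hom.SpecMap_residueFieldMap_fromSpecResidueField,
        ← Spec.map_comp_assoc, hτ])
  have e : (ρ g).hom x = x := by
    have := congrArg (fun f : Spec (X.residueField x) ⟶ X => f default) hg
    simpa only [Scheme.Hom.comp_apply, Scheme.fromSpecResidueField_apply] using this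
  refine ⟨g, e, Spec.map_injective ?_⟩
  rw [← cancel_mono (X.fromSpecResidueField x), ← hg,
    ← Scheme.Hom.SpecMap_residueFieldMap_fromSpecResidueField, Spec.map_comp, Category.assoc,
    Scheme.residueFieldCongr_inv, Scheme.residueFieldCongr_fromSpecResidueField]

end GrothLib.SGA1Quot21
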